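import Groth.Agent.FrobAlg.K674.RelSmooth
import Groth.Agent.S3176
import Groth.Agent.S3191
import Mathlib.RingTheory.Flat.Rank
import Mathlib.RingTheory.RingHom.Flat
import Mathlib.RingTheory.RingHom.Finite
import Mathlib.RingTheory.Finiteness.ModuleFinitePresentation
import Mathlib.RingTheory.Etale.Kaehler
import Mathlib.RingTheory.Flat.EquationalCriterion

/-!
# The relative Frobenius of a smooth algebra is finite locally free of rank `p ^ r`
-/

set_option autoImplicit false
set_option linter.unusedSectionVars false
universe u v w

open TensorProduct FrobAlg KaehlerDifferential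

namespace K674.RelMain

variable (p : ℕ) [Fact p.Prime] (A B : Type u) [CommRing A] [CharP A p] [CommRing B] [CharP B p] [Algebra A B]

/-- naturality of the relative Frobenius. -/
theorem relFrob_comp_map (C : Type u) [CommRing C] [CharP C p] [Algebra B C] [Algebra A C] [IsScalarTower A B C] :
    (relFrob p A C).comp (Algebra.TensorProduct.map (IsScalarTower.toAlgHom A B C)
      (AlgHom.id A (Twist p A))).toRingHom = (algebraMap B C).comp (relFrob p A B) := by
  apply Algebra.TensorProduct.ringHom_ext
  · ext b
    change relFrob p A C ((algebraMap B C b) ⊗ₜ 1) = algebraMap B C (relFrob p A B (b ⊗ₜ 1))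
    rw [RelPush.relFrob_tmul, RelPush.relFrob_tmul]
    simp
  · ext a
    change relFrob p A C (((algebraMap B C) 1) ⊗ₜ a) = algebraMap B C (relFrob p A B ((1 : B) ⊗ₜ a))
    rw [RelPush.relFrob_tmul, RelPush.relFrob_tmul, map_one, one_pow, one_pow, one_mul, one_mul,
      ← IsScalarTower.algebraMap_apply]

theorem charP_away (g : B) (q : Ideal B) [q.IsPrime] (hg : g ∉ q) : CharP (Localization.Away g) p := by
  have hnt : Nontrivial (Localization.Away g) := by
    rw [← not_subsingleton_iff_nontrivial, IsLocalization.subsingleton_iff (M := Submonoid.powers g)]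
    rintro ⟨n, hn⟩
    exact hg (Ideal.IsPrime.mem_of_pow_mem inferInstance n (by rw [show g ^ n = 0 from hn]; exact q.zero_mem))
  refine (CharP.charP_iff_prime_eq_zero (Fact.out : p.Prime)).2 ?_
  rw [← map_natCast (algebraMap B (Localization.Away g)), CharP.cast_eq_zero, map_zero]

theorem smooth_away [Algebra.Smooth A B] (g : B) : Algebra.Smooth A (Localization.Away g) := by
  have : Algebra.Smooth B (Localization.Away g) := Algebra.Smooth.of_isLocalization_Away g
  exact Algebra.Smooth.comp A B (Localization.Away g)

/-- **The relative Frobenius of a smooth algebra is flat.** -/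
theorem flat [Algebra.Smooth A B] : (relFrob p A B).Flat := by
  let s : Set B := {g | ∃ (q : Ideal B) (_ : q.IsPrime), g ∉ q ∧ ∃ (I : Type) (_ : Finite I)
    (v : I → Localization.Away g) (b : Module.Basis I (Localization.Away g) Ω[Localization.Away g⁄A]),
      (∀ i, b i = D A _ (v i))}
  have hs : Ideal.span s = ⊤ := by
    by_contra h
    obtain ⟨m, hm, hle⟩ := Ideal.exists_le_maximal _ h
    obtain ⟨g, hg, I, hI, v, b, hb⟩ := Coord.exists_coord A B m
    exact hg (hle (Ideal.subset_span ⟨m, hm.isPrime, hg, I, hI, v, b, hb⟩))
  refine RingHom.Flat.ofLocalizationSpanTarget (relFrob p A B) s hs ?_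
  rintro ⟨g, q, hq, hg, I, hI, v, b, hb⟩
  have := charP_away p B g q hg
  have := smooth_away A B g
  have h1 := (RelSmooth.flat_finite_rank_of_coord p A (Localization.Away g) I v b hb).1
  change ((algebraMap B (Localization.Away g)).comp (relFrob p A B)).Flat
  rw [← relFrob_comp_map]
  refine RingHom.Flat.comp ?_ h1
  have h2 : (IsScalarTower.toAlgHom A B (Localization.Away g) : B →+* Localization.Away g).Flat := by
    change (algebraMap B (Localization.Away g)).Flat
    rw [RingHom.flat_algebraMap_iff]
    exact IsLocalization.flat _ (Submonoid.powers g)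
  exact RingHom.Flat.tensorProductMap (f := IsScalarTower.toAlgHom A B (Localization.Away g))
    (g := AlgHom.id A (Twist p A)) h2 (RingHom.Flat.id _)

theorem finite [Algebra.FiniteType A B] : (relFrob p A B).Finite := by
  have h1 := (Groth.Agent.S3191.result p A B).1
  refine h1.to_finite ?_
  have h2 := Groth.Agent.Sga5.RelFrob.relFrob_comp_inR_toTwist (p := p) (A := A) (B := B)
  rw [RingHom.comp_assoc] at h2
  refine RingHom.FiniteType.of_comp_finiteType (f := (Groth.Agent.Sga5.RelFrob.inR p A B).comp (toTwist p A : A →+* Twist p A)) ?_
  rw [h2]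
  exact RingHom.finiteType_algebraMap.2 inferInstance

theorem rank [Algebra.Smooth A B] (r : ℕ)
    (hr : ∀ q : PrimeSpectrum B, Module.rankAtStalk (R := B) (KaehlerDifferential A B) q = r)
    (x : PrimeSpectrum (BaseChange p A B)) : (relFrob p A B).finrank x = p ^ r := by
  have hflat := flat p A B
  have hfin := finite p A B
  -- choose a point `q` of `Spec B` over `x`
  have hsurj : Function.Surjective (PrimeSpectrum.comap (relFrob p A B)) := by
    have h := Groth.Agent.S3191.result p A B
    have h1 : (relFrob p A B).kerLift.IsIntegral := by
      have : ((relFrob p A B).kerLift.comp (Ideal.Quotient.mk _)).IsIntegral := h.1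
      exact this.tower_top
    have h2 := h1.comap_surjective (relFrob p A B).kerLift_injective
    have h3 := (PrimeSpectrum.comap_quotientMk_bijective_of_le_nilradical
      (I := RingHom.ker (relFrob p A B)) (fun y hy => ⟨p, h.2 y hy⟩)).2
    exact h3.comp h2
  obtain ⟨q, rfl⟩ := hsurj x
  obtain ⟨g, hg, I, hI, v, b, hb⟩ := Coord.exists_coord A B q.asIdeal
  have := charP_away p B g q.asIdeal hg
  have := smooth_away A B g
  obtain ⟨h1, h2, h3⟩ := RelSmooth.flat_finite_rank_of_coord p A (Localization.Away g) I v b hb
  -- the point of `Spec B_g`
  obtain ⟨y, rfl⟩ : ∃ y : PrimeSpectrum (Localization.Away g),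
      PrimeSpectrum.comap (algebraMap B (Localization.Away g)) y = q := by
    have : q ∈ Set.range (PrimeSpectrum.comap (algebraMap B (Localization.Away g))) := by
      rw [PrimeSpectrum.localization_away_comap_range (Localization.Away g) g]
      exact hg
    exact this
  -- the rank of the differentials
  have hcard : Nat.card I = r := by
    have hnt : Nontrivial (Localization.Away g) := y.nontrivial
    have e := KaehlerDifferential.tensorKaehlerEquivOfFormallyEtale A B (Localization.Away g)
    have h4 := Module.rankAtStalk_baseChange (R := B) (M := Ω[B⁄A]) y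
    rw [hr, Module.rankAtStalk_eq_of_equiv e] at h4
    have : Module.Free (Localization.Away g) Ω[Localization.Away g⁄A] := Module.Free.of_basis b
    rw [Module.rankAtStalk_eq_finrank_of_free, Pi.natCast_apply, Module.finrank_eq_nat_card_basis b,
      Nat.cast_id] at h4
    exact h4
  -- the pushout square
  have het : Algebra.Etale B (Localization.Away g) := inferInstance
  have hbij := (Groth.Agent.S3176.result p B (Localization.Away g)).1 het
  let _ := RelPush.algTw p A B
  let _ := RelPush.algTar p A B (Localization.Away g)
  let _ := RelPush.algBC p A B (Localization.Away g)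
  let _ : Algebra (Twist p B) (Target p B (Localization.Away g)) :=
    (inclHom p B (Localization.Away g)).toRingHom.toAlgebra
  let _ : Algebra (BaseChange p A B) (Target p B (Localization.Away g)) :=
      ((algebraMap (BaseChange p A (Localization.Away g)) (Target p B (Localization.Away g))).comp
        (algebraMap (BaseChange p A B) (BaseChange p A (Localization.Away g)))).toAlgebra
  obtain ⟨t1, t2, hpush⟩ := RelPush.isPushout p A B (Localization.Away g) hbij
  have hflat' : Module.Flat (BaseChange p A B) (Twist p B) := hflat
  have hfin' : Module.Finite (BaseChange p A B) (Twist p B) := hfin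
  have h5 := Algebra.rankAtStalk_eq_of_isPushout (BaseChange p A B) (Twist p B)
      (BaseChange p A (Localization.Away g)) (Target p B (Localization.Away g))
      (PrimeSpectrum.comap (relFrob p A (Localization.Away g)) y)
  have h6 := h3 (PrimeSpectrum.comap (relFrob p A (Localization.Away g)) y)
  have h7 : PrimeSpectrum.comap (algebraMap (BaseChange p A B) (BaseChange p A (Localization.Away g)))
      (PrimeSpectrum.comap (relFrob p A (Localization.Away g)) y) =
      PrimeSpectrum.comap (relFrob p A B) (PrimeSpectrum.comap (algebraMap B (Localization.Away g)) y) := by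
    rw [← PrimeSpectrum.comap_comp_apply, ← PrimeSpectrum.comap_comp_apply]
    exact congrArg (fun f => PrimeSpectrum.comap f y) (relFrob_comp_map p A B (Localization.Away g))
  rw [h7] at h5
  rw [← hcard, ← h6]
  exact h5.symm

theorem result [Algebra.Smooth A B] (r : ℕ)
    (hr : ∀ q : PrimeSpectrum B, Module.rankAtStalk (R := B) (KaehlerDifferential A B) q = r) :
    letI := (FrobAlg.relFrob p A B).toAlgebra
    Module.Finite (FrobAlg.BaseChange p A B) B ∧ Module.Projective (FrobAlg.BaseChange p A B) B ∧
      ∀ q : PrimeSpectrum (FrobAlg.BaseChange p A B),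
        Module.rankAtStalk (R := FrobAlg.BaseChange p A B) B q = p ^ r := by
  let _ := (FrobAlg.relFrob p A B).toAlgebra
  have h1 : Module.Finite (FrobAlg.BaseChange p A B) B := finite p A B
  have h2 : Module.Flat (FrobAlg.BaseChange p A B) B := flat p A B
  have h3 : Algebra.FinitePresentation (FrobAlg.BaseChange p A B) B := by
    have h2 := Groth.Agent.Sga5.RelFrob.relFrob_comp_inR_toTwist (p := p) (A := A) (B := B)
    rw [RingHom.comp_assoc] at h2
    have h4 : (relFrob p A B).FinitePresentation := by
      refine RingHom.FinitePresentation.of_comp_finiteType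
        (f := (Groth.Agent.Sga5.RelFrob.inR p A B).comp (toTwist p A : A →+* Twist p A)) (by
          rw [h2]
          exact RingHom.finitePresentation_algebraMap.2 inferInstance) ?_
      refine RingHom.FiniteType.comp (g := Groth.Agent.Sga5.RelFrob.inR p A B)
        (f := (toTwist p A : A →+* Twist p A)) ?_ ?_
      · have h5 : Algebra.FiniteType (Twist p A) (BaseChange p A B) :=
          Algebra.FiniteType.equiv (A := Twist p A ⊗[A] B) inferInstance
            (Algebra.TensorProduct.commRight A (Twist p A) B)
        exact RingHom.finiteType_algebraMap.2 h5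
      · exact RingHom.FiniteType.of_surjective _ (toTwist p A).surjective
    exact h4
  have h4 : Module.FinitePresentation (FrobAlg.BaseChange p A B) B :=
    Module.FinitePresentation.of_finite_of_finitePresentation _ _
  exact ⟨h1, Module.Flat.projective_of_finitePresentation, rank p A B r hr⟩

end K674.RelMain
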