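import Groth.Agent.FrobAlg.K673.Lift
import Mathlib.RingTheory.WittVector.InitTail
import Mathlib.RingTheory.WittVector.Teichmuller
import Mathlib.RingTheory.WittVector.Identities

/-!
# Coefficients of sums and products in `W₂(A)`, the ghost map `W₂(A) → B` of a flat lifting `B` of `A`
-/

set_option autoImplicit false
set_option linter.unusedSectionVars false
universe u v w

namespace K674.Ghost

open FrobAlg K673.W2Basic

section coeffs

variable {p : ℕ} [Fact p.Prime] {A : Type u} [CommRing A]

theorem exists_verschiebung (x : W2 p A) (hx : x.coeff 0 = 0) :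
    ∃ Y : WittVector p A, x = WittVector.truncate 2 (WittVector.verschiebung Y) ∧ x.coeff 1 = Y.coeff 0 := by
  obtain ⟨X, rfl⟩ := WittVector.truncate_surjective p 2 A x
  refine ⟨X.shift 1, ?_, ?_⟩
  · refine TruncatedWittVector.ext fun i => ?_
    rw [WittVector.coeff_truncate, WittVector.coeff_truncate]
    fin_cases i
    · exact (by simpa [WittVector.coeff_truncate] using hx : X.coeff 0 = 0).trans
        (WittVector.verschiebung_coeff_zero _).symm
    · change X.coeff 1 = (WittVector.verschiebung (X.shift 1)).coeff (0 + 1)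
      rw [WittVector.verschiebung_coeff_succ, WittVector.shift_coeff]
  · rw [WittVector.coeff_truncate, WittVector.shift_coeff]; rfl

theorem coeff_one_truncate_verschiebung (Y : WittVector p A) :
    (WittVector.truncate 2 (WittVector.verschiebung Y)).coeff (1 : Fin 2) = Y.coeff 0 := by
  rw [WittVector.coeff_truncate]
  exact WittVector.verschiebung_coeff_succ Y 0

theorem coeff_zero_truncate_verschiebung (Y : WittVector p A) :
    (WittVector.truncate 2 (WittVector.verschiebung Y)).coeff (0 : Fin 2) = 0 := by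
  rw [WittVector.coeff_truncate]
  exact WittVector.verschiebung_coeff_zero Y

/-- additivity of the first component on the kernel of the residue map. -/
theorem coeff_one_add (x y : W2 p A) (hx : x.coeff 0 = 0) (hy : y.coeff 0 = 0) :
    (x + y).coeff 1 = x.coeff 1 + y.coeff 1 := by
  obtain ⟨X, rfl, hX⟩ := exists_verschiebung x hx
  obtain ⟨Y, rfl, hY⟩ := exists_verschiebung y hy
  rw [← map_add, ← map_add, coeff_one_truncate_verschiebung, coeff_one_truncate_verschiebung,
    coeff_one_truncate_verschiebung, WittVector.add_coeff_zero]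

theorem coeff_one_sub (x y : W2 p A) (hx : x.coeff 0 = 0) (hy : y.coeff 0 = 0) :
    (x - y).coeff 1 = x.coeff 1 - y.coeff 1 := by
  have h : (x - y).coeff 0 = 0 := by
    rw [← res_apply, map_sub, res_apply, res_apply, hx, hy, sub_zero]
  have := coeff_one_add (x - y) y h hy
  rw [sub_add_cancel] at this
  rw [this, add_sub_cancel_right]

/-- `z * (0, a) = (0, z₀^p a)`. -/
theorem coeff_one_mul [CharP A p] (z x : W2 p A) (hx : x.coeff 0 = 0) :
    (z * x).coeff 1 = z.coeff 0 ^ p * x.coeff 1 := by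
  obtain ⟨X, rfl, hX⟩ := exists_verschiebung x hx
  obtain ⟨Z, rfl⟩ := WittVector.truncate_surjective p 2 A z
  rw [← map_mul, mul_comm, ← WittVector.verschiebung_mul_frobenius, coeff_one_truncate_verschiebung,
    WittVector.mul_coeff_zero, WittVector.coeff_frobenius_charP, coeff_one_truncate_verschiebung,
    WittVector.coeff_truncate, mul_comm]
  rfl

/-- `(a, 0) + (0, b) = (a, b)`. -/
theorem coeff_one_add_of_disjoint (x y : W2 p A) (hx : x.coeff 1 = 0) (hy : y.coeff 0 = 0) :
    (x + y).coeff 1 = y.coeff 1 := by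
  have h1 : x = WittVector.truncate 2 (WittVector.teichmuller p (x.coeff 0)) := by
    refine TruncatedWittVector.ext fun i => ?_
    rw [WittVector.coeff_truncate]
    fin_cases i
    · exact (WittVector.teichmuller_coeff_zero p _).symm
    · exact hx.trans (WittVector.teichmuller_coeff_pos p _ 1 one_pos).symm
  obtain ⟨Y, hY, hY'⟩ := exists_verschiebung y hy
  rw [h1, hY, ← map_add, WittVector.coeff_truncate, WittVector.coeff_truncate]
  rw [WittVector.coeff_add_of_disjoint]
  · change (WittVector.teichmuller p (x.coeff 0)).coeff 1 + _ = _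
    rw [WittVector.teichmuller_coeff_pos p _ 1 one_pos, zero_add]
  · intro n
    rcases Nat.eq_zero_or_pos n with rfl | hn
    · right; exact WittVector.verschiebung_coeff_zero _
    · left; exact WittVector.teichmuller_coeff_pos p _ n hn

theorem ext2 {x y : W2 p A} (h0 : x.coeff 0 = y.coeff 0) (h1 : x.coeff 1 = y.coeff 1) : x = y :=
  TruncatedWittVector.ext fun i => by fin_cases i; exacts [h0, h1]

theorem coeff_zero_mul (x y : W2 p A) : (x * y).coeff 0 = x.coeff 0 * y.coeff 0 := by
  rw [← res_apply, map_mul, res_apply, res_apply]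

theorem coeff_zero_add (x y : W2 p A) : (x + y).coeff 0 = x.coeff 0 + y.coeff 0 := by
  rw [← res_apply, map_add, res_apply, res_apply]

theorem coeff_zero_sub (x y : W2 p A) : (x - y).coeff 0 = x.coeff 0 - y.coeff 0 := by
  rw [← res_apply, map_sub, res_apply, res_apply]

end coeffs

section ghost

variable {p : ℕ} [Fact p.Prime] {k : Type u} [Field k] [CharP k p] [PerfectRing k p]
  {A : Type v} [CommRing A] [Algebra k A]
  {B : Type v} [CommRing B] {ι : W2 p k →+* B} {π : B →+* A}

/-- `𝕎(B) → W₂(A)`. -/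
noncomputable def red (π : B →+* A) : WittVector p B →+* W2 p A :=
  (WittVector.truncate 2).comp (WittVector.map π)

theorem red_coeff_zero (π : B →+* A) (X : WittVector p B) : (red π X).coeff 0 = π (X.coeff 0) := by
  rw [red, RingHom.comp_apply, WittVector.coeff_truncate, WittVector.map_coeff]; rfl

theorem red_coeff_one (π : B →+* A) (X : WittVector p B) : (red π X).coeff 1 = π (X.coeff 1) := by
  rw [red, RingHom.comp_apply, WittVector.coeff_truncate, WittVector.map_coeff]; rfl

theorem red_surjective (π : B →+* A) (hπ : Function.Surjective π) :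
    Function.Surjective (red (p := p) π) :=
  (WittVector.truncate_surjective p 2 A).comp (WittVector.map_surjective π hπ)

theorem ghost_one (X : WittVector p B) :
    WittVector.ghostComponent 1 X = X.coeff 0 ^ p + p * X.coeff 1 := by
  rw [WittVector.ghostComponent_apply, wittPolynomial_one]
  simp
  ring

variable (h : IsLift p k A B ι π)
include h

theorem natCast_mul_pow (c : B) : ((p : B) * c) ^ p = 0 := by
  have hpp := K673.Lift.IsLift.natCast_mul_natCast h
  have hp2 := (Fact.out : p.Prime).two_le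
  obtain ⟨q, hq⟩ : ∃ q, p = q + 2 := ⟨p - 2, by omega⟩
  have : ((p : B) * c) ^ p = ((p : B) * (p : B)) * (c * c * ((p : B) * c) ^ q) := by
    conv_lhs => rw [hq, pow_add]
    rw [← hq]; ring
  rw [this, hpp, zero_mul]

/-- The ghost map `W₂(A) → B`, `(a₀, a₁) ↦ ã₀^p + p ã₁`. -/
noncomputable def ghost : W2 p A →+* B :=
  RingHom.liftOfSurjective (red π) (red_surjective π h.surj) ⟨WittVector.ghostComponent 1, fun X hX => by
    rw [RingHom.mem_ker] at hX ⊢
    have h0 := red_coeff_zero π X
    have h1 := red_coeff_one π X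
    rw [hX, TruncatedWittVector.coeff_zero] at h0 h1
    obtain ⟨c, hc⟩ := (K673.Lift.IsLift.pi_eq_zero_iff h _).1 h0.symm
    rw [ghost_one, (K673.Lift.IsLift.natCast_mul_eq_zero_iff h _).2 h1.symm, add_zero, hc,
      natCast_mul_pow h]⟩

theorem ghost_red (X : WittVector p B) : ghost h (red π X) = X.coeff 0 ^ p + p * X.coeff 1 := by
  rw [← ghost_one]
  exact RingHom.liftOfRightInverse_comp_apply _ _ _ _ X

/-- explicit formula for the ghost map. -/
theorem ghost_eq (x : W2 p A) (b₀ b₁ : B) (h₀ : π b₀ = x.coeff 0) (h₁ : π b₁ = x.coeff 1) :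
    ghost h x = b₀ ^ p + p * b₁ := by
  have : x = red π (WittVector.mk p fun n => if n = 0 then b₀ else b₁) := by
    refine ext2 ?_ ?_
    · rw [red_coeff_zero]; simp [h₀]
    · rw [red_coeff_one]; simp [h₁]
  rw [this, ghost_red]
  simp

theorem pi_ghost (x : W2 p A) : π (ghost h x) = x.coeff 0 ^ p := by
  obtain ⟨b₀, h₀⟩ := h.surj (x.coeff 0)
  obtain ⟨b₁, h₁⟩ := h.surj (x.coeff 1)
  rw [ghost_eq h x b₀ b₁ h₀ h₁, map_add, map_mul, map_pow, K673.Lift.IsLift.pi_natCast h, zero_mul,
    add_zero, h₀]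

theorem ghost_injective {x y : W2 p A} (h0 : x.coeff 0 = y.coeff 0) (h1 : ghost h x = ghost h y) : x = y := by
  refine ext2 h0 ?_
  obtain ⟨b₀, h₀⟩ := h.surj (x.coeff 0)
  obtain ⟨b₁, h₁⟩ := h.surj (x.coeff 1)
  obtain ⟨c₁, h₂⟩ := h.surj (y.coeff 1)
  rw [ghost_eq h x b₀ b₁ h₀ h₁, ghost_eq h y b₀ c₁ (h₀.trans h0) h₂, add_right_inj, ← sub_eq_zero,
    ← mul_sub, K673.Lift.IsLift.natCast_mul_eq_zero_iff h, map_sub, h₁, h₂, sub_eq_zero] at h1
  exact h1

theorem exists_ghost (a : A) (b : B) (hab : π b = a ^ p) : ∃ x : W2 p A, x.coeff 0 = a ∧ ghost h x = b := by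
  obtain ⟨b₀, h₀⟩ := h.surj a
  have : π (b - b₀ ^ p) = 0 := by rw [map_sub, map_pow, h₀, hab, sub_self]
  obtain ⟨c, hc⟩ := (K673.Lift.IsLift.pi_eq_zero_iff h _).1 this
  refine ⟨TruncatedWittVector.mk p ![a, π c], ?_, ?_⟩
  · rw [TruncatedWittVector.coeff_mk]; rfl
  · rw [ghost_eq h _ b₀ c (by rw [TruncatedWittVector.coeff_mk]; exact h₀)
      (by rw [TruncatedWittVector.coeff_mk]; rfl), ← hc]
    ring

/-- the ghost map restricted to `W₂(k)` is `ι ∘ σ`. -/
theorem ghost_truncMap (x : W2 p k) :
    ghost h (WittGrp.truncMap p 2 (algebraMap k A) x) = ι (sigma p k x) := by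
  have hc : ∀ y : W2 p k, π (ι y) = algebraMap k A (y.coeff 0) := fun y => by
    rw [← RingHom.comp_apply, h.comm, RingHom.comp_apply, res_apply]
  let b₀ : W2 p k := TruncatedWittVector.mk p ![x.coeff 0, 0]
  let b₁ : W2 p k := TruncatedWittVector.mk p ![x.coeff 1, 0]
  rw [ghost_eq h _ (ι b₀) (ι b₁) (by rw [hc, WittGrp.coeff_truncMap]; rfl)
    (by rw [hc, WittGrp.coeff_truncMap]; rfl), ← map_pow, ← map_natCast ι, ← map_mul, ← map_add]
  congr 1
  -- `b₀ ^ p + p * b₁ = σ x`
  have h0 : b₀ ^ p = TruncatedWittVector.mk p ![x.coeff 0 ^ p, 0] := by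
    have e : ∀ a : k, (TruncatedWittVector.mk p ![a, 0] : W2 p k) =
        WittVector.truncate 2 (WittVector.teichmuller p a) := by
      intro a
      refine ext2 ?_ ?_
      · rw [TruncatedWittVector.coeff_mk, WittVector.coeff_truncate]
        exact (WittVector.teichmuller_coeff_zero p _).symm
      · rw [TruncatedWittVector.coeff_mk, WittVector.coeff_truncate]
        exact (WittVector.teichmuller_coeff_pos p _ 1 one_pos).symm
    change (TruncatedWittVector.mk p ![x.coeff 0, 0] : W2 p k) ^ p = _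
    rw [e, e, ← map_pow, ← map_pow]
  rw [h0]
  have hz : ((p : W2 p k) * b₁).coeff 0 = 0 := coeff_zero_natCast_mul p k b₁
  have ho : ((p : W2 p k) * b₁).coeff 1 = x.coeff 1 ^ p := coeff_one_natCast_mul p k b₁
  refine ext2 ?_ ?_
  · rw [coeff_zero_add, hz, add_zero, TruncatedWittVector.coeff_mk]
    exact (WittGrp.coeff_frob p 2 _ x 0).symm
  · rw [coeff_one_add_of_disjoint _ _ (by rw [TruncatedWittVector.coeff_mk]; rfl) hz, ho]
    exact (WittGrp.coeff_frob p 2 _ x 1).symm

theorem frobLift_iff :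
    (∃ Φ : B →+* B, FrobAlg.IsFrobLift p k A B ι π Φ) ↔
      ∃ θ : B →+* FrobAlg.W2 p A,
        (FrobAlg.res p A).comp θ = π ∧ θ.comp ι = WittGrp.truncMap p 2 (algebraMap k A) := by
  constructor
  · rintro ⟨Φ, hΦ⟩
    obtain ⟨θ, hθ⟩ := K673.Lift.exists_ringHom_of_rel
      (fun (b : B) (x : W2 p A) => x.coeff 0 = π b ∧ ghost h x = Φ b)
      (fun b => exists_ghost h (π b) (Φ b) (hΦ.red b))
      (fun b x y hx hy => ghost_injective h (hx.1.trans hy.1.symm) (hx.2.trans hy.2.symm))
      ⟨by rw [← res_apply, map_one, map_one], by rw [map_one, map_one]⟩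
      ⟨by rw [← res_apply, map_zero, map_zero], by rw [map_zero, map_zero]⟩
      (fun b b' x x' hx hx' => ⟨by rw [coeff_zero_add, hx.1, hx'.1, map_add],
        by rw [map_add, hx.2, hx'.2, map_add]⟩)
      (fun b b' x x' hx hx' => ⟨by rw [coeff_zero_mul, hx.1, hx'.1, map_mul],
        by rw [map_mul, hx.2, hx'.2, map_mul]⟩)
    refine ⟨θ, ?_, ?_⟩
    · ext b
      rw [RingHom.comp_apply, res_apply, (hθ b).1]
    · ext1 x
      rw [RingHom.comp_apply]
      refine ghost_injective h ?_ ?_
      · rw [(hθ _).1, ← RingHom.comp_apply, h.comm, RingHom.comp_apply, res_apply,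
          WittGrp.coeff_truncMap]
      · rw [(hθ _).2, ghost_truncMap, ← RingHom.comp_apply, hΦ.semi, RingHom.comp_apply]
  · rintro ⟨θ, hθ, hθ'⟩
    refine ⟨(ghost h).comp θ, h, ?_, ?_⟩
    · ext1 x
      rw [RingHom.comp_assoc, hθ', RingHom.comp_apply, ghost_truncMap, RingHom.comp_apply]
    · intro b
      rw [RingHom.comp_apply, pi_ghost, ← res_apply, ← RingHom.comp_apply, hθ]

end ghost

end K674.Ghost
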