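import Groth.Agent.Sga4h.H13.FamJac
import Mathlib.RingTheory.Smooth.StandardSmoothOfFree
import Mathlib.RingTheory.Smooth.Locus
import Mathlib.RingTheory.Etale.Basic

/-!
# Local étale coordinates on a smooth algebra over an arbitrary ring
-/

set_option autoImplicit false
set_option linter.unusedSectionVars false
universe u v w

open TensorProduct KaehlerDifferential

namespace K674.Coord

/-- If `d v_i` is a basis of `Ω_{B/A}` and `B` is smooth over `A` then `A[x_i] → B`, `x_i ↦ v_i` is étale. -/
theorem etale_of_basis {A B : Type*} [CommRing A] [CommRing B] [Algebra A B] [Algebra.Smooth A B]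
    {I : Type*} [Finite I] (b : Module.Basis I B Ω[B⁄A]) (v : I → B) (hv : ∀ i, b i = D A B (v i)) :
    (MvPolynomial.aeval v : MvPolynomial I A →ₐ[A] B).toRingHom.Etale := by
  let _ : Algebra (MvPolynomial I A) B := (MvPolynomial.aeval v : MvPolynomial I A →ₐ[A] B).toRingHom.toAlgebra
  have : IsScalarTower A (MvPolynomial I A) B :=
    .of_algebraMap_eq fun r => ((MvPolynomial.aeval v : MvPolynomial I A →ₐ[A] B).commutes r).symm
  have h : Function.Bijective (mapBaseChange A (MvPolynomial I A) B) := by
    let c : Module.Basis I B (B ⊗[MvPolynomial I A] Ω[MvPolynomial I A⁄A]) :=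
      (mvPolynomialBasis A I).baseChange B
    have h1 : mapBaseChange A (MvPolynomial I A) B = (c.equiv b (Equiv.refl I)).toLinearMap := by
      refine c.ext fun i => ?_
      rw [LinearEquiv.coe_coe, Module.Basis.equiv_apply, Equiv.refl_apply, Module.Basis.baseChange_apply,
        mvPolynomialBasis_apply, mapBaseChange_tmul, one_smul, KaehlerDifferential.map_D, hv]
      congr 1
      exact MvPolynomial.aeval_X v i
    rw [h1]
    exact (c.equiv b (Equiv.refl I)).bijective
  have h2 : Algebra.FormallyEtale (MvPolynomial I A) B :=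
    Groth.Agent.Sga4h.H13.FamJac.formallyEtale_of_mapBaseChange_bijective A (MvPolynomial I A) B h
  have h3 : Algebra.FinitePresentation (MvPolynomial I A) B :=
    Algebra.FinitePresentation.of_restrict_scalars_finitePresentation A (MvPolynomial I A) B
  exact (⟨h2, h3⟩ : Algebra.Etale (MvPolynomial I A) B)

theorem exists_coord (A B : Type u) [CommRing A] [CommRing B] [Algebra A B] [Algebra.Smooth A B]
    (q : Ideal B) [q.IsPrime] :
    ∃ (g : B) (_ : g ∉ q) (I : Type) (_ : Finite I) (v : I → Localization.Away g)
      (b : Module.Basis I (Localization.Away g) Ω[Localization.Away g⁄A]), (∀ i, b i = D A _ (v i)) := by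
  obtain ⟨g, hg, hstd⟩ := Algebra.IsSmoothAt.exists_notMem_isStandardSmooth A q
  obtain ⟨-, I, b, hb⟩ := Algebra.IsStandardSmooth.iff_exists_basis_kaehlerDifferential.1 hstd
  have hnt : Nontrivial (Localization.Away g) := by
    rw [← not_subsingleton_iff_nontrivial, IsLocalization.subsingleton_iff (M := Submonoid.powers g)]
    rintro ⟨n, hn⟩
    exact hg (Ideal.IsPrime.mem_of_pow_mem inferInstance n (by rw [show g ^ n = 0 from hn]; exact q.zero_mem))
  have : Finite I := Module.Finite.finite_basis b
  choose v hv using hb
  exact ⟨g, hg, I, this, fun i => v ⟨i, rfl⟩, b, fun i => (hv ⟨i, rfl⟩).symm⟩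

end K674.Coord
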