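import Mathlib.FieldTheory.IsPerfectClosure
import Mathlib.RingTheory.RingHom.Flat
import Mathlib.RingTheory.RingHom.FaithfullyFlat
import Mathlib.RingTheory.Flat.EquationalCriterion
import Mathlib.RingTheory.IntegralClosure.IsIntegralClosure.Basic
import Mathlib.RingTheory.Spectrum.Prime.Homeomorph

/-!
Elementary facts on perfect closures `i : A → A'`, `j : B → B'` of rings of characteristic `p`.
-/

set_option autoImplicit false
universe u v w

namespace K674.Perf

section roots

variable {A' : Type u} [CommRing A'] (p : ℕ) [ExpChar A' p] [PerfectRing A' p]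

/-- The `p^n`-th root in a perfect ring. -/
noncomputable def root (n : ℕ) : A' ≃+* A' := (iterateFrobeniusEquiv A' p n).symm

theorem root_pow (n : ℕ) (x : A') : (root p n x) ^ p ^ n = x := by
  rw [root, ← iterateFrobenius_def, ← iterateFrobeniusEquiv_apply, RingEquiv.apply_symm_apply]

theorem root_pow' (n : ℕ) (x : A') : root p n (x ^ p ^ n) = x := by
  rw [root, ← iterateFrobenius_def, ← iterateFrobeniusEquiv_apply, RingEquiv.symm_apply_apply]

theorem pow_inj (n : ℕ) {x y : A'} (h : x ^ p ^ n = y ^ p ^ n) : x = y := by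
  rw [← root_pow' p n x, h, root_pow']

theorem map_root {B' : Type v} [CommRing B'] [ExpChar B' p] [PerfectRing B' p] (φ : A' →+* B')
    (n : ℕ) (x : A') : φ (root p n x) = root p n (φ x) :=
  pow_inj p n (by rw [← map_pow, root_pow, root_pow])

theorem root_succ (n : ℕ) (x : A') : (root p (n + 1) x) ^ p = root p n x :=
  pow_inj p n (by rw [← pow_mul, ← pow_succ', root_pow, root_pow])

end roots

theorem isReduced {A' : Type u} [CommRing A'] (p : ℕ) [Fact p.Prime] [ExpChar A' p] [PerfectRing A' p] :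
    IsReduced A' := by
  refine ⟨fun x hx => ?_⟩
  have : x ∈ pNilradical A' p := by
    rw [pNilradical_prime (Fact.out : p.Prime)]; exact hx
  rw [PerfectRing.pNilradical_eq_bot] at this
  exact this

/-- elements with the same image under a `p`-radical map agree after a `p`-power. -/
theorem eq_pow_of_map_eq {A : Type u} {A' : Type v} [CommRing A] [CommRing A'] (p : ℕ) [ExpChar A p]
    (i : A →+* A') [IsPRadical i p] {x y : A} (h : i x = i y) : ∃ n : ℕ, x ^ p ^ n = y ^ p ^ n := by
  rw [← sub_mem_pNilradical_iff_pow_expChar_pow_eq]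
  apply IsPRadical.ker_le i p
  rw [RingHom.mem_ker, map_sub, h, sub_self]

/-- for finitely many elements of the target of a `p`-radical map there is a common exponent. -/
theorem exists_common {A : Type u} {A' : Type v} [CommRing A] [CommRing A'] (p : ℕ)
    (i : A →+* A') [IsPRadical i p] {ι : Type w} [Finite ι] (x : ι → A') :
    ∃ (n : ℕ), ∀ m, n ≤ m → ∃ y : ι → A, ∀ t, i (y t) = x t ^ p ^ m := by
  classical
  have := Fintype.ofFinite ι
  choose n y hy using fun t => IsPRadical.pow_mem i p (x t)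
  refine ⟨Finset.univ.sup n, fun m hm => ⟨fun t => y t ^ p ^ (m - n t), fun t => ?_⟩⟩
  have hle : n t ≤ m := (Finset.le_sup (Finset.mem_univ t)).trans hm
  rw [map_pow, hy, ← pow_mul, ← pow_add, Nat.add_sub_cancel' hle]

theorem isIntegral_of_isPRadical {A : Type u} {A' : Type v} [CommRing A] [CommRing A'] (p : ℕ) [Fact p.Prime]
    (i : A →+* A') [IsPRadical i p] : i.IsIntegral := by
  intro x
  obtain ⟨n, y, hy⟩ := IsPRadical.pow_mem i p x
  refine ⟨Polynomial.X ^ p ^ n - Polynomial.C y,
    Polynomial.monic_X_pow_sub_C _ (pow_ne_zero _ (Fact.out : p.Prime).ne_zero), ?_⟩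
  simp [hy]

theorem isHomeomorph_comap_of_isPRadical {A : Type u} {A' : Type v} [CommRing A] [CommRing A'] (p : ℕ)
    [Fact p.Prime] (i : A →+* A') [IsPRadical i p] : IsHomeomorph (PrimeSpectrum.comap i) := by
  refine PrimeSpectrum.isHomeomorph_comap i (fun x => ?_) ?_
  · obtain ⟨n, y, hy⟩ := IsPRadical.pow_mem i p x
    exact ⟨p ^ n, pow_pos (Fact.out : p.Prime).pos n, y, hy⟩
  · exact (IsPRadical.ker_le i p).trans pNilradical_le_nilradical

section main

variable (p : ℕ) [Fact p.Prime]
    {A B A' B' : Type u} [CommRing A] [CommRing B] [CommRing A'] [CommRing B']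
    [CharP A p] [CharP B p] [CharP A' p] [CharP B' p] [PerfectRing A' p] [PerfectRing B' p]
    (φ : A →+* B) (i : A →+* A') (j : B →+* B') [IsPerfectClosure i p]
    [IsPerfectClosure j p] (φ' : A' →+* B') (hφ : φ'.comp i = j.comp φ)

include p hφ

set_option linter.unusedSectionVars false

theorem isIntegral_iff : φ.IsIntegral ↔ φ'.IsIntegral := by
  have key : ∀ a : A, φ' (i a) = j (φ a) := fun a => congr($hφ a)
  constructor
  · intro h
    have h1 : (j.comp φ).IsIntegral := h.trans _ _ (isIntegral_of_isPRadical p j)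
    rw [← hφ] at h1
    exact h1.tower_top
  · intro h b
    have h1 : (φ'.comp i).IsIntegral := RingHom.IsIntegral.trans _ _ (isIntegral_of_isPRadical p i) h
    rw [hφ] at h1
    obtain ⟨P, hP, hP'⟩ := h1 (j b)
    have h2 : j (P.eval₂ φ b) = j 0 := by rw [Polynomial.hom_eval₂, hP', map_zero]
    obtain ⟨m, hm⟩ := eq_pow_of_map_eq p j h2
    refine ⟨P ^ p ^ m, hP.pow _, ?_⟩
    rw [Polynomial.eval₂_pow, hm, zero_pow (pow_ne_zero _ (Fact.out : p.Prime).ne_zero)]

theorem flat (hflat : φ.Flat) : φ'.Flat := by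
  algebraize [φ, φ']
  have key : ∀ a : A, φ' (i a) = j (φ a) := fun a => congr($hφ a)
  refine Module.Flat.of_forall_isTrivialRelation ?_
  intro l f x hfx
  obtain ⟨n₁, h₁⟩ := exists_common p i f
  obtain ⟨n₂, h₂⟩ := exists_common p j x
  obtain ⟨α, hα⟩ := h₁ (max n₁ n₂) (le_max_left _ _)
  obtain ⟨ξ, hξ⟩ := h₂ (max n₁ n₂) (le_max_right _ _)
  set N := max n₁ n₂
  -- the relation downstairs
  have hrel : j (∑ t, φ (α t) * ξ t) = j 0 := by
    rw [map_sum, map_zero]
    simp only [map_mul, ← key, hα, hξ]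
    have := congrArg (iterateFrobenius B' p N) hfx
    simp only [map_sum, map_zero, iterateFrobenius_def, Algebra.smul_def, mul_pow] at this
    simpa only [map_pow] using! this
  obtain ⟨m, hm⟩ := eq_pow_of_map_eq p j hrel
  have hm' : ∑ t, (α t ^ p ^ m) • (ξ t ^ p ^ m) = 0 := by
    rw [zero_pow (pow_ne_zero _ (Fact.out : p.Prime).ne_zero)] at hm
    rw [← iterateFrobenius_def, map_sum] at hm
    simpa only [map_mul, iterateFrobenius_def, ← map_pow] using! hm
  obtain ⟨κ, a, y, hy, ha⟩ := Module.Flat.isTrivialRelation_of_sum_smul_eq_zero hm'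
  refine ⟨κ, fun t k => root p (N + m) (i (a t k)), fun k => root p (N + m) (j (y k)), ?_, ?_⟩
  · intro t
    apply pow_inj p (N + m)
    have h1 : x t ^ p ^ (N + m) = j (ξ t ^ p ^ m) := by
      rw [map_pow, hξ, ← pow_mul, ← pow_add]
    have hy' : ξ t ^ p ^ m = ∑ k, a t k • y k := hy t
    rw [h1, hy', map_sum]
    change _ = (∑ k, (root p (N + m) (i (a t k))) • (root p (N + m) (j (y k)))) ^ p ^ (N + m)
    rw [← iterateFrobenius_def p (N + m) (∑ k, _), map_sum]
    refine Finset.sum_congr rfl fun k _ => ?_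
    rw [iterateFrobenius_def, Algebra.smul_def, Algebra.smul_def, mul_pow, root_pow]
    change _ = (φ' _) ^ _ * _
    rw [← map_pow φ', root_pow, key, map_mul]
    rfl
  · intro k
    apply pow_inj p (N + m)
    rw [← iterateFrobenius_def p (N + m) (∑ k, _), map_sum, zero_pow (pow_ne_zero _ (Fact.out : p.Prime).ne_zero)]
    have h2 := congrArg i (ha k)
    rw [map_sum, map_zero] at h2
    rw [← h2]
    refine Finset.sum_congr rfl fun t _ => ?_
    rw [iterateFrobenius_def, mul_pow, root_pow, map_mul, map_pow, hα, ← pow_mul, ← pow_add]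

theorem faithfullyFlat (hflat : φ.FaithfullyFlat) : φ'.FaithfullyFlat := by
  rw [RingHom.FaithfullyFlat.iff_flat_and_comap_surjective] at hflat ⊢
  refine ⟨flat p φ i j φ' hφ hflat.1, ?_⟩
  have h1 := (isHomeomorph_comap_of_isPRadical p i).bijective
  have h2 := (isHomeomorph_comap_of_isPRadical p j).bijective
  intro q
  obtain ⟨r, hr⟩ := hflat.2 (PrimeSpectrum.comap i q)
  obtain ⟨s, rfl⟩ := h2.2 r
  refine ⟨s, h1.1 ?_⟩
  rw [← hr, ← PrimeSpectrum.comap_comp_apply, ← PrimeSpectrum.comap_comp_apply, hφ]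

end main

end K674.Perf
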