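import Groth.Prelude.Def_FrobAlg
import Groth.Agent.FrobAlg.K674.Perf
import Groth.Agent.S3176
import Mathlib.FieldTheory.IsPerfectClosure
import Mathlib.RingTheory.Etale.Basic
import Mathlib.RingTheory.TensorProduct.Maps

/-!
An etale algebra over a perfect ring is perfect; perfect closures and etale base change.
-/

set_option autoImplicit false
universe u v w

open TensorProduct

namespace K674.EtPerf

open K674.Perf

/-- a map between perfect rings, under a common ring `B` over which both are `p`-radical, is bijective. -/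
theorem bijective_of_isPRadical {B : Type u} {C : Type v} {B' : Type w} [CommRing B] [CommRing C] [CommRing B']
    (p : ℕ) [Fact p.Prime] [CharP B p] [CharP C p] [CharP B' p] [PerfectRing C p] [PerfectRing B' p]
    (ι : B →+* C) (j : B →+* B') (ψ : C →+* B') (hψ : ψ.comp ι = j)
    (hι : ∀ x : C, ∃ (n : ℕ) (y : B), ι y = x ^ p ^ n) [IsPRadical j p] : Function.Bijective ψ := by
  have key : ∀ b, ψ (ι b) = j b := fun b => congr($hψ b)
  have hp0 := (Fact.out : p.Prime).ne_zero
  constructor
  · refine (injective_iff_map_eq_zero _).2 fun x hx => ?_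
    obtain ⟨n, b, hb⟩ := hι x
    have h1 : j b = j 0 := by rw [← key, hb, map_pow, hx, zero_pow (pow_ne_zero _ hp0), map_zero]
    obtain ⟨m, hm⟩ := eq_pow_of_map_eq p j h1
    apply pow_inj p (n + m)
    rw [pow_add, pow_mul, ← hb, ← map_pow, hm, zero_pow (pow_ne_zero _ hp0), map_zero, ← pow_add,
      zero_pow (pow_ne_zero _ hp0)]
  · intro y
    obtain ⟨n, b, hb⟩ := IsPRadical.pow_mem j p y
    refine ⟨root p n (ι b), pow_inj p n ?_⟩
    rw [← map_pow, root_pow, key, hb]

theorem perfect_of_etale (p : ℕ) [Fact p.Prime] (A C : Type u) [CommRing A] [CommRing C] [CharP A p] [CharP C p]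
    [PerfectRing A p] [Algebra A C] [Algebra.Etale A C] : PerfectRing C p := by
  have h := (Groth.Agent.S3176.result p A C).1 inferInstance
  have hb : Function.Bijective (Algebra.ofId A (FrobAlg.Twist p A)) := by
    change Function.Bijective (fun a : A => FrobAlg.toTwist p A (frobenius A p a))
    exact (FrobAlg.toTwist p A).bijective.comp (PerfectRing.bijective_frobenius (R := A) (p := p))
  let e : A ≃ₐ[A] FrobAlg.Twist p A := AlgEquiv.ofBijective (Algebra.ofId A (FrobAlg.Twist p A)) hb
  let g : C ≃ₐ[A] C ⊗[A] FrobAlg.Twist p A :=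
    (Algebra.TensorProduct.rid A A C).symm.trans (Algebra.TensorProduct.congr AlgEquiv.refl e)
  have hg : ∀ c, FrobAlg.relFrob p A C (g c) = frobenius C p c := by
    intro c
    change FrobAlg.relFrob p A C (c ⊗ₜ[A] e 1) = _
    rw [map_one]
    change c ^ p * algebraMap A C 1 = _
    rw [map_one, mul_one, frobenius_def]
  refine ⟨?_⟩
  have : (fun x : C => x ^ p) = (FrobAlg.relFrob p A C) ∘ g := funext fun c => (hg c).symm
  rw [this]
  exact h.comp g.bijective

theorem result (p : ℕ) [Fact p.Prime]
    (A B A' B' : Type u) [CommRing A] [CommRing B] [CommRing A'] [CommRing B']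
    [CharP A p] [CharP B p] [CharP A' p] [CharP B' p] [PerfectRing A' p] [PerfectRing B' p]
    [Algebra A B] [Algebra.Etale A B] [Algebra A A'] [Algebra B B'] [Algebra A B'] [IsScalarTower A B B']
    [IsPerfectClosure (algebraMap A A') p] [IsPerfectClosure (algebraMap B B') p]
    (φ' : A' →ₐ[A] B') :
    Function.Bijective (Algebra.TensorProduct.lift φ' (IsScalarTower.toAlgHom A B B')
      (fun a b => Commute.all (φ' a) (IsScalarTower.toAlgHom A B B' b))) := by
  set ψ := Algebra.TensorProduct.lift φ' (IsScalarTower.toAlgHom A B B')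
      (fun a b => Commute.all (φ' a) (IsScalarTower.toAlgHom A B B' b)) with hψ
  have : Nontrivial B' := CharP.nontrivial_of_char_ne_one (Fact.out : p.Prime).ne_one
  have : Nontrivial (A' ⊗[A] B) := ψ.toRingHom.domain_nontrivial
  have : CharP (A' ⊗[A] B) p := by
    refine (CharP.charP_iff_prime_eq_zero (Fact.out : p.Prime)).2 ?_
    have h1 : algebraMap A' (A' ⊗[A] B) (p : A') = (p : A' ⊗[A] B) := map_natCast _ p
    rw [← h1, CharP.cast_eq_zero, map_zero]
  have : PerfectRing (A' ⊗[A] B) p := perfect_of_etale p A' (A' ⊗[A] B)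
  refine bijective_of_isPRadical p (Algebra.TensorProduct.includeRight (R := A) (A := A') (B := B)).toRingHom
    (algebraMap B B') ψ.toRingHom ?_ ?_
  · ext b
    change ψ (1 ⊗ₜ b) = algebraMap B B' b
    rw [hψ, Algebra.TensorProduct.lift_tmul, map_one, one_mul]; rfl
  · intro x
    induction x using TensorProduct.induction_on with
    | zero => exact ⟨0, 0, by simp⟩
    | tmul a b =>
      obtain ⟨n, y, hy⟩ := IsPRadical.pow_mem (algebraMap A A') p a
      refine ⟨n, y • b ^ p ^ n, ?_⟩
      change (1 : A') ⊗ₜ[A] (y • b ^ p ^ n) = _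
      rw [Algebra.TensorProduct.tmul_pow, ← hy, TensorProduct.tmul_smul, TensorProduct.smul_tmul',
        Algebra.smul_def, mul_one]
    | add x y hx hy =>
      obtain ⟨n, b, hb⟩ := hx
      obtain ⟨m, c, hc⟩ := hy
      refine ⟨n + m, b ^ p ^ m + c ^ p ^ n, ?_⟩
      rw [map_add, map_pow, map_pow, hb, hc, add_pow_char_pow, ← pow_mul, ← pow_mul, ← pow_add, ← pow_add,
        add_comm m n]

end K674.EtPerf
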