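import Mathlib.RingTheory.FiniteType
import Mathlib.RingTheory.TensorProduct.Free
import Mathlib.RingTheory.RingHom.FiniteType
import Mathlib.Algebra.CharP.Defs
import Mathlib.RingTheory.Nilpotent.GeometricallyReduced
import Mathlib.RingTheory.Adjoin.Basic
import Mathlib.RingTheory.Noetherian.Nilpotent
import Mathlib.FieldTheory.Perfect
import Mathlib.FieldTheory.IsAlgClosed.AlgebraicClosure
import Mathlib.RingTheory.Flat.Basic
import Mathlib.RingTheory.Flat.FaithfullyFlat.Basic

/-!
# `k[R^{p^n}]` is geometrically reduced for `n` large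
-/

set_option autoImplicit false
universe u v w

open TensorProduct

namespace K674.GeomRed

variable (k : Type u) [Field k] (p : ℕ) [Fact p.Prime] [CharP k p]
    (R : Type u) [CommRing R] [Algebra k R] [Algebra.FiniteType k R]

theorem key [Nontrivial R] (K : Type v) [Field K] [Algebra k K] [IsAlgClosed K] :
    ∃ n : ℕ, IsReduced (K ⊗[k] ↥(Algebra.adjoin k (Set.range (fun x : R => x ^ (p ^ n))))) := by
  have hp0 := (Fact.out : p.Prime).ne_zero
  have hKp : CharP K p := charP_of_injective_algebraMap (algebraMap k K).injective p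
  have hnt : Nontrivial (K ⊗[k] R) := Module.FaithfullyFlat.lTensor_nontrivial k K R
  have hKR : CharP (K ⊗[k] R) p := by
    refine (CharP.charP_iff_prime_eq_zero (Fact.out : p.Prime)).2 ?_
    rw [← map_natCast (algebraMap K (K ⊗[k] R)), CharP.cast_eq_zero, map_zero]
  have hN : IsNoetherianRing (K ⊗[k] R) := Algebra.FiniteType.isNoetherianRing K (K ⊗[k] R)
  obtain ⟨m, hm⟩ := IsNoetherianRing.isNilpotent_nilradical (K ⊗[k] R)
  have hnil : ∀ x : K ⊗[k] R, IsNilpotent x → x ^ p ^ m = 0 := by
    intro x hx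
    have h1 : x ^ m ∈ nilradical (K ⊗[k] R) ^ m := Ideal.pow_mem_pow (mem_nilradical.2 hx) m
    rw [hm] at h1
    exact pow_eq_zero_of_le (Nat.lt_pow_self (Fact.out : p.Prime).one_lt).le h1
  refine ⟨m, ?_⟩
  set S := Algebra.adjoin k (Set.range (fun x : R => x ^ (p ^ m))) with hS
  let F : K ⊗[k] R →+* K ⊗[k] R := iterateFrobenius (K ⊗[k] R) p m
  have hF : ∀ x, F x = x ^ p ^ m := fun x => iterateFrobenius_def _ _ _
  let g : K ⊗[k] S →ₐ[K] K ⊗[k] R := Algebra.TensorProduct.map (AlgHom.id K K) S.val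
  have hg : Function.Injective g := Module.Flat.lTensor_preserves_injective_linearMap (M := K) S.val.toLinearMap
    Subtype.val_injective
  have hc : ∀ c : K, c ⊗ₜ[k] (1 : R) ∈ F.range := by
    intro c
    obtain ⟨c', hc'⟩ := (iterateFrobeniusEquiv K p m).surjective c
    rw [iterateFrobeniusEquiv_apply, iterateFrobenius_def] at hc'
    exact ⟨c' ⊗ₜ 1, by rw [hF, Algebra.TensorProduct.tmul_pow, hc', one_pow]⟩
  have hs : ∀ s : R, s ∈ S → (1 : K) ⊗ₜ[k] s ∈ F.range := by
    intro s hs
    induction hs using Algebra.adjoin_induction with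
    | mem x hx =>
      obtain ⟨y, rfl⟩ := hx
      exact ⟨1 ⊗ₜ y, by rw [hF, Algebra.TensorProduct.tmul_pow, one_pow]⟩
    | algebraMap r =>
      have : (1 : K) ⊗ₜ[k] algebraMap k R r = (algebraMap k K r) ⊗ₜ[k] (1 : R) := by
        rw [Algebra.algebraMap_eq_smul_one, Algebra.algebraMap_eq_smul_one, TensorProduct.tmul_smul,
          TensorProduct.smul_tmul']
      rw [this]
      exact hc _
    | add x y _ _ hx hy => rw [TensorProduct.tmul_add]; exact add_mem hx hy
    | mul x y _ _ hx hy =>
      have : (1 : K) ⊗ₜ[k] (x * y) = ((1 : K) ⊗ₜ[k] x) * ((1 : K) ⊗ₜ[k] y) := by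
        rw [Algebra.TensorProduct.tmul_mul_tmul, one_mul]
      rw [this]; exact mul_mem hx hy
  have hrange : ∀ z : K ⊗[k] S, g z ∈ F.range := by
    intro z
    induction z using TensorProduct.induction_on with
    | zero => rw [map_zero]; exact zero_mem _
    | tmul c s =>
      have : g (c ⊗ₜ s) = (c ⊗ₜ[k] (1 : R)) * ((1 : K) ⊗ₜ[k] (s : R)) := by
        rw [Algebra.TensorProduct.tmul_mul_tmul, mul_one, one_mul]; rfl
      rw [this]
      exact mul_mem (hc c) (hs _ s.2)
    | add x y hx hy => rw [map_add]; exact add_mem hx hy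
  refine ⟨fun z hz => ?_⟩
  obtain ⟨y, hy⟩ := hrange z
  have hy' : IsNilpotent y := by
    have h1 : IsNilpotent (g z) := hz.map g
    rw [← hy, hF] at h1
    exact (IsNilpotent.pow_iff_pos (pow_ne_zero _ hp0)).1 h1
  apply hg
  rw [map_zero, ← hy, hF, hnil y hy']


theorem result : ∃ n : ℕ, Algebra.IsGeometricallyReduced k
    ↥(Algebra.adjoin k (Set.range (fun x : R => x ^ (p ^ n)))) := by
  have hp0 := (Fact.out : p.Prime).ne_zero
  rcases subsingleton_or_nontrivial R with hR | hR
  · refine ⟨0, ?_⟩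
    rw [Algebra.isGeometricallyReduced_field_iff]
    have h1 : Subsingleton ↥(Algebra.adjoin k (Set.range (fun x : R => x ^ (p ^ 0)))) :=
      ⟨fun a b => Subtype.ext (Subsingleton.elim _ _)⟩
    have h2 : Subsingleton (AlgebraicClosure k ⊗[k] ↥(Algebra.adjoin k (Set.range (fun x : R => x ^ (p ^ 0))))) := by
      refine ⟨fun a b => ?_⟩
      have h0 : ∀ a : AlgebraicClosure k ⊗[k] ↥(Algebra.adjoin k (Set.range (fun x : R => x ^ (p ^ 0)))), a = 0 := by
        intro a
        induction a using TensorProduct.induction_on with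
        | zero => rfl
        | tmul x y => rw [Subsingleton.elim y 0, TensorProduct.tmul_zero]
        | add x y hx hy => rw [hx, hy, add_zero]
      rw [h0 a, h0 b]
    exact ⟨fun x _ => Subsingleton.elim _ _⟩
  obtain ⟨n, hn⟩ := key k p R (AlgebraicClosure k)
  exact ⟨n, by rw [Algebra.isGeometricallyReduced_field_iff]; exact hn⟩

end K674.GeomRed
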