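import Mathlib.RingTheory.HopfAlgebra.Basic
import Mathlib.RingTheory.TensorProduct.Basic
import Mathlib.FieldTheory.IsAlgClosed.Basic
import Mathlib.FieldTheory.IsAlgClosed.AlgebraicClosure
import Mathlib.RingTheory.LocalRing.Defs
import Mathlib.RingTheory.LocalRing.RingHom.Basic
import Mathlib.RingTheory.FiniteType
import Mathlib.RingTheory.Noetherian.Defs
import Mathlib.RingTheory.Noetherian.Nilpotent
import Mathlib.Algebra.CharP.Defs
import Mathlib.RingTheory.IntegralClosure.IsIntegralClosure.Basic
import Mathlib.RingTheory.IntegralClosure.Algebra.Basic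
import Mathlib.RingTheory.Localization.FractionRing

/-!
# Finite Frobenius height
-/

set_option autoImplicit false
universe u v w

open scoped TensorProduct

namespace K674.Height

theorem result (p : ℕ) [Fact p.Prime] (R : Type u) [CommRing R] [CharP R p]
    [IsNoetherianRing R] (A : Type u) [CommRing A] [HopfAlgebra R A] [Algebra.FiniteType R A] :
    (∃ n : ℕ, ∀ a : A, Bialgebra.counitAlgHom R A a = 0 → a ^ p ^ n = 0) ↔
      (Module.Finite R A ∧ ∀ (K : Type u) [Field K] [IsAlgClosed K] [Algebra R K], IsLocalRing (K ⊗[R] A)) := by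
  set ε := Bialgebra.counitAlgHom R A with hε
  have hp1 := (Fact.out : p.Prime).one_lt
  constructor
  · rintro ⟨n, hn⟩
    have hnil : ∀ a : A, IsNilpotent (a - algebraMap R A (ε a)) := fun a =>
      ⟨p ^ n, hn _ (by rw [map_sub, AlgHom.commutes]; exact sub_self _)⟩
    constructor
    · have hint : Algebra.IsIntegral R A := by
        refine ⟨fun a => ?_⟩
        have h1 : IsIntegral R (a - algebraMap R A (ε a)) := by
          obtain ⟨m, hm⟩ := hnil a
          rcases Nat.eq_zero_or_pos m with rfl | hpos
          · rw [pow_zero] at hm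
            have : Subsingleton A := subsingleton_of_zero_eq_one hm.symm
            rw [Subsingleton.elim (a - _) 0]; exact isIntegral_zero
          · exact IsIntegral.of_pow hpos (by rw [hm]; exact isIntegral_zero)
        have h2 := h1.add (isIntegral_algebraMap (A := A) (x := ε a))
        rwa [sub_add_cancel] at h2
      exact Algebra.IsIntegral.finite
    · intro K _ _ _
      let f : K ⊗[R] A →ₐ[K] K := Algebra.TensorProduct.lift (AlgHom.id K K) ((Algebra.ofId R K).comp ε)
        (fun _ _ => Commute.all _ _)
      have key : ∀ z : K ⊗[R] A, IsNilpotent (z - algebraMap K (K ⊗[R] A) (f z)) := by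
        intro z
        induction z using TensorProduct.induction_on with
        | zero => simp
        | tmul c a =>
          have h1 : f (c ⊗ₜ a) = ε a • c := by
            rw [Algebra.TensorProduct.lift_tmul, AlgHom.comp_apply, Algebra.ofId_apply, Algebra.smul_def, mul_comm]
            rfl
          have h2 : c ⊗ₜ[R] a - algebraMap K (K ⊗[R] A) (f (c ⊗ₜ a)) =
              (c ⊗ₜ[R] (1 : A)) * ((1 : K) ⊗ₜ[R] (a - algebraMap R A (ε a))) := by
            rw [h1, Algebra.TensorProduct.tmul_mul_tmul, mul_one, one_mul, TensorProduct.tmul_sub,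
              Algebra.TensorProduct.algebraMap_apply, Algebra.algebraMap_self, RingHom.id_apply,
              Algebra.algebraMap_eq_smul_one, TensorProduct.tmul_smul, TensorProduct.smul_tmul']
          rw [h2]
          have h3 : IsNilpotent ((1 : K) ⊗ₜ[R] (a - algebraMap R A (ε a))) :=
            (hnil a).map (Algebra.TensorProduct.includeRight : A →ₐ[R] K ⊗[R] A)
          exact (Commute.all _ _).isNilpotent_mul_left h3
        | add x y hx hy =>
          have : x + y - algebraMap K (K ⊗[R] A) (f (x + y)) =
              (x - algebraMap K (K ⊗[R] A) (f x)) + (y - algebraMap K (K ⊗[R] A) (f y)) := by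
            rw [map_add, map_add]; ring
          rw [this]
          exact (Commute.all _ _).isNilpotent_add hx hy
      have hloc : IsLocalHom (f : K ⊗[R] A →+* K) := by
        refine ⟨fun z hz => ?_⟩
        have h1 : IsUnit (algebraMap K (K ⊗[R] A) (f z)) := IsUnit.map _ hz
        have h2 : z = (z - algebraMap K (K ⊗[R] A) (f z)) + algebraMap K (K ⊗[R] A) (f z) := by ring
        rw [h2]
        exact (key z).isUnit_add_right_of_commute h1 (Commute.all _ _)
      exact RingHom.domain_isLocalRing (f : K ⊗[R] A →+* K)
  · rintro ⟨hfin, hK⟩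
    have hN : IsNoetherianRing A := Algebra.FiniteType.isNoetherianRing R A
    have hle : ∀ a : A, ε a = 0 → a ∈ nilradical A := by
      intro a ha
      rw [nilradical_eq_sInf, Ideal.mem_sInf]
      intro q hq
      have hq' : q.IsPrime := hq
      let K := AlgebraicClosure (FractionRing (A ⧸ q))
      let χ : A →+* K := (algebraMap (FractionRing (A ⧸ q)) K).comp
        ((algebraMap (A ⧸ q) (FractionRing (A ⧸ q))).comp (Ideal.Quotient.mk q))
      let _ : Algebra R K := (χ.comp (algebraMap R A)).toAlgebra
      let χ' : A →ₐ[R] K := { χ with commutes' := fun r => rfl }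
      have hloc := hK K
      let x₁ : K ⊗[R] A →ₐ[K] K := Algebra.TensorProduct.lift (AlgHom.id K K) χ' (fun _ _ => Commute.all _ _)
      let x₂ : K ⊗[R] A →ₐ[K] K := Algebra.TensorProduct.lift (AlgHom.id K K) ((Algebra.ofId R K).comp ε)
        (fun _ _ => Commute.all _ _)
      have hs : ∀ x : K ⊗[R] A →ₐ[K] K, RingHom.ker x = IsLocalRing.maximalIdeal (K ⊗[R] A) := by
        intro x
        have : (RingHom.ker (x : K ⊗[R] A →+* K)).IsMaximal :=
          RingHom.ker_isMaximal_of_surjective (x : K ⊗[R] A →+* K)
            (fun c => ⟨algebraMap K _ c, x.commutes c⟩)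
        exact IsLocalRing.eq_maximalIdeal this
      have h2 : x₂ (1 ⊗ₜ a) = 0 := by
        rw [Algebra.TensorProduct.lift_tmul, AlgHom.comp_apply, ha, map_zero, mul_zero]
      have h1 : x₁ (1 ⊗ₜ a) = 0 := by
        rw [← RingHom.mem_ker, hs x₁, ← hs x₂, RingHom.mem_ker, h2]
      rw [Algebra.TensorProduct.lift_tmul, map_one, one_mul] at h1
      have h3 : algebraMap (FractionRing (A ⧸ q)) K (algebraMap (A ⧸ q) (FractionRing (A ⧸ q))
          (Ideal.Quotient.mk q a)) = 0 := h1
      rw [map_eq_zero_iff _ (algebraMap (FractionRing (A ⧸ q)) K).injective,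
        map_eq_zero_iff _ (IsFractionRing.injective (A ⧸ q) (FractionRing (A ⧸ q))),
        Ideal.Quotient.eq_zero_iff_mem] at h3
      exact h3
    obtain ⟨m, hm⟩ := IsNoetherianRing.isNilpotent_nilradical A
    refine ⟨m, fun a ha => ?_⟩
    have h1 : a ^ m ∈ nilradical A ^ m := Ideal.pow_mem_pow (hle a ha) m
    rw [hm] at h1
    exact pow_eq_zero_of_le (Nat.lt_pow_self hp1).le h1

end K674.Height
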