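import Groth.Agent.FrobAlg.K674.Perf
import Mathlib.RingTheory.Flat.Basic
import Mathlib.RingTheory.Ideal.Operations

/-!
The radical of a principal ideal in a perfect ring: membership, and flatness.
-/

set_option autoImplicit false
universe u v w

namespace K674.Rad

open K674.Perf

variable {A : Type u} [CommRing A] (p : ℕ) [Fact p.Prime] [CharP A p] [PerfectRing A p]

theorem mem_radical_iff (f x : A) : x ∈ (Ideal.span {f}).radical ↔ ∃ n : ℕ, root p n f ∣ x := by
  constructor
  · rintro ⟨m, hm⟩
    rw [Ideal.mem_span_singleton] at hm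
    -- choose n with m ≤ p ^ n
    obtain ⟨c, hc⟩ := hm
    refine ⟨m, root p m (c * x ^ (p ^ m - m)), ?_⟩
    apply pow_inj p m
    rw [mul_pow, root_pow, root_pow, ← mul_assoc, ← hc, ← pow_add]
    congr 1
    have := (Nat.lt_pow_self (n := m) (Fact.out : p.Prime).one_lt).le
    omega
  · rintro ⟨n, c, rfl⟩
    refine ⟨p ^ n, ?_⟩
    rw [mul_pow, root_pow]
    exact Ideal.mul_mem_right _ _ (Ideal.mem_span_singleton_self f)

theorem root_mem (f : A) (n : ℕ) : root p n f ∈ (Ideal.span {f}).radical :=
  (mem_radical_iff p f _).2 ⟨n, dvd_rfl⟩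

theorem root_dvd_of_le (f : A) {m n : ℕ} (h : m ≤ n) : root p n f ∣ root p m f := by
  refine ⟨root p n f ^ (p ^ (n - m) - 1), ?_⟩
  rw [← pow_succ', Nat.sub_add_cancel (pow_pos (Fact.out : p.Prime).pos _)]
  apply pow_inj p m
  rw [root_pow, ← pow_mul, ← pow_add, Nat.sub_add_cancel h, root_pow]

/-- The key: an element killed by the `p^n`-th root of `f` is killed by every `p^m`-th root. -/
theorem mul_root_eq_zero (f a : A) {n m : ℕ} (h : a * root p n f = 0) : a * root p m f = 0 := by
  rcases le_total m n with hmn | hmn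
  · obtain ⟨c, hc⟩ := root_dvd_of_le p f hmn
    rw [hc, ← mul_assoc, h, zero_mul]
  · apply pow_inj p (m - n)
    rw [mul_pow, zero_pow (pow_ne_zero _ (Fact.out : p.Prime).ne_zero)]
    have h1 : root p m f ^ p ^ (m - n) = root p n f := by
      apply pow_inj p n
      rw [← pow_mul, ← pow_add, Nat.sub_add_cancel hmn, root_pow, root_pow]
    rw [h1]
    have h2 : a ^ p ^ (m - n) = a ^ (p ^ (m - n) - 1) * a := by
      rw [← pow_succ, Nat.sub_add_cancel (pow_pos (Fact.out : p.Prime).pos _)]
    rw [h2, mul_assoc, h, mul_zero]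

include p in
theorem flat (f : A) : Module.Flat A ((Ideal.span {f}).radical) := by
  refine Module.Flat.of_forall_isTrivialRelation ?_
  intro l a x hax
  choose n c hc using fun t => (mem_radical_iff p f (x t : A)).1 (x t).2
  obtain ⟨N, hN⟩ : ∃ N, ∀ t, n t ≤ N := ⟨Finset.univ.sup n, fun t => Finset.le_sup (Finset.mem_univ t)⟩
  -- `x t = root N f * d t`
  choose e he using fun t => root_dvd_of_le p f (hN t)
  have hx : ∀ t, (x t : A) = root p N f * (e t * c t) := fun t => by
    rw [hc, he, mul_assoc]
  have hroot : root p N f = root p (N + 1) f * root p (N + 1) f ^ (p - 1) := by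
    rw [← pow_succ', Nat.sub_add_cancel (Fact.out : p.Prime).one_lt.le, root_succ]
  refine ⟨1, fun t _ => root p (N + 1) f ^ (p - 1) * (e t * c t), fun _ => ⟨root p (N + 1) f, root_mem p f _⟩,
    fun t => ?_, fun _ => ?_⟩
  · apply Subtype.ext
    rw [hx t]
    simp only [Finset.univ_unique, Finset.sum_const, Finset.card_singleton, one_smul, Submodule.coe_smul,
      smul_eq_mul]
    rw [hroot]; ring
  · have h0 : (∑ t, a t * (e t * c t)) * root p N f = 0 := by
      have := congrArg (Subtype.val) hax
      simp only [Submodule.coe_sum, Submodule.coe_smul, smul_eq_mul, Submodule.coe_zero, hx] at this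
      rw [Finset.sum_mul, ← this]
      exact Finset.sum_congr rfl fun t _ => by ring
    have h1 := mul_root_eq_zero p f _ (m := N + 1) h0
    have hp : p - 1 = (p - 2) + 1 := by have := (Fact.out : p.Prime).two_le; omega
    calc ∑ t, a t * (root p (N + 1) f ^ (p - 1) * (e t * c t))
        = ((∑ t, a t * (e t * c t)) * root p (N + 1) f) * root p (N + 1) f ^ (p - 2) := by
          rw [hp, pow_succ, Finset.sum_mul, Finset.sum_mul]
          exact Finset.sum_congr rfl fun t _ => by ring
      _ = 0 := by rw [h1, zero_mul]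

end K674.Rad
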