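import Groth.Agent.FrobAlg.K674.Perf
import Groth.Agent.FrobAlg.K674.Rad
import Mathlib.RingTheory.Flat.EquationalCriterion
import Mathlib.RingTheory.Ideal.Operations
import Mathlib.RingTheory.Ideal.Maps

/-!
# Flat resolutions of perfect algebras stay exact modulo radical ideals
-/

set_option autoImplicit false
set_option linter.unusedSectionVars false
universe u v w

namespace K674.PerfExact

open K674.Perf

section mem

variable {P : Type u} [CommRing P] {M : Type v} [AddCommGroup M] [Module P M]

theorem mem_smul_top_iff (J : Ideal P) (x : M) : x ∈ J • (⊤ : Submodule P M) ↔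
    ∃ (ι : Type) (_ : Fintype ι) (j : ι → P) (g : ι → M), (∀ i, j i ∈ J) ∧ x = ∑ i, j i • g i := by
  constructor
  · intro hx
    induction hx using Submodule.smul_induction_on' with
    | smul a ha m _ => exact ⟨Unit, inferInstance, fun _ => a, fun _ => m, fun _ => ha, by simp⟩
    | add x _ y _ hx hy =>
      obtain ⟨ι, _, j, g, hj, rfl⟩ := hx
      obtain ⟨κ, _, j', g', hj', rfl⟩ := hy
      refine ⟨ι ⊕ κ, inferInstance, Sum.elim j j', Sum.elim g g', ?_, ?_⟩
      · rintro (i | i)
        exacts [hj i, hj' i]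
      · rw [Fintype.sum_sum_type]; rfl
  · rintro ⟨ι, _, j, g, hj, rfl⟩
    exact Submodule.sum_mem _ fun i _ => Submodule.smul_mem_smul (hj i) Submodule.mem_top

/-- In a flat module, `f w ∈ J M` implies `w ∈ (J : f) M`, in the form: any `e` with
`a f ∈ J → a e ∈ J` satisfies `e w ∈ J M`. -/
theorem flat_key [Module.Flat P M] (J : Ideal P) (f e : P) (h : ∀ a, a * f ∈ J → a * e ∈ J) (w : M)
    (hw : f • w ∈ J • (⊤ : Submodule P M)) : e • w ∈ J • (⊤ : Submodule P M) := by
  obtain ⟨ι, _, j, g, hj, hs⟩ := (mem_smul_top_iff J _).1 hw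
  have hrel : ∑ i : Option ι, (i.elim f fun i => - j i) • (i.elim w g) = 0 := by
    rw [Fintype.sum_option]
    simp only [Option.elim_none, Option.elim_some, neg_smul, Finset.sum_neg_distrib]
    rw [hs, add_neg_cancel]
  obtain ⟨κ, a, y, hy, ha⟩ := Module.Flat.isTrivialRelation_of_sum_smul_eq_zero hrel
  have h1 : w = ∑ k, a none k • y k := hy none
  have h2 : ∀ k, a none k * f ∈ J := by
    intro k
    have h3 := ha k
    rw [Fintype.sum_option] at h3
    simp only [Option.elim_none, Option.elim_some, neg_mul, Finset.sum_neg_distrib] at h3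
    rw [mul_comm, add_neg_eq_zero.1 h3]
    exact Ideal.sum_mem _ fun i _ => J.mul_mem_right _ (hj i)
  rw [h1, Finset.smul_sum]
  refine Submodule.sum_mem _ fun k _ => ?_
  rw [← mul_smul, mul_comm]
  exact Submodule.smul_mem_smul (h _ (h2 k)) Submodule.mem_top

end mem

variable (p : ℕ) [Fact p.Prime] {P : Type u} [CommRing P] [CharP P p] [PerfectRing P p]

theorem root_mem_of_isRadical (J : Ideal P) (hJ : J.IsRadical) (n : ℕ) {x : P} (hx : x ∈ J) : root p n x ∈ J :=
  hJ ⟨p ^ n, by rw [root_pow]; exact hx⟩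

theorem key_ideal (J : Ideal P) (hJ : J.IsRadical) (f : P) (N : ℕ) (a : P) (h : a * root p N f ∈ J) :
    a * root p (N + 1) f ∈ J := by
  refine hJ ⟨p, ?_⟩
  rw [mul_pow, root_succ]
  have h2 : a ^ p = a ^ (p - 1) * a := by
    rw [← pow_succ, Nat.sub_add_cancel (Fact.out : p.Prime).one_lt.le]
  rw [h2, mul_assoc]
  exact J.mul_mem_left _ h

theorem mem_radical_sup_iff (J : Ideal P) (hJ : J.IsRadical) (f x : P) :
    x ∈ (J ⊔ Ideal.span {f}).radical ↔ ∃ (N : ℕ) (j b : P), j ∈ J ∧ x = j + root p N f * b := by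
  constructor
  · rintro ⟨m, hm⟩
    have hle : m ≤ p ^ m := (Nat.lt_pow_self (Fact.out : p.Prime).one_lt).le
    have h1 : x ^ p ^ m ∈ J ⊔ Ideal.span {f} := Ideal.pow_mem_of_pow_mem _ hm hle
    obtain ⟨j, hj, b, hb, hjb⟩ := Submodule.mem_sup.1 h1
    obtain ⟨c, rfl⟩ := Ideal.mem_span_singleton.1 hb
    refine ⟨m, root p m j, root p m c, root_mem_of_isRadical p J hJ m hj, ?_⟩
    apply pow_inj p m
    rw [← hjb, add_pow_char_pow, mul_pow, root_pow, root_pow, root_pow]
  · rintro ⟨N, j, b, hj, rfl⟩
    refine Ideal.add_mem _ (Ideal.le_radical (Ideal.mem_sup_left hj)) (Ideal.mul_mem_right _ _ ?_)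
    exact ⟨p ^ N, by rw [root_pow]; exact Ideal.mem_sup_right (Ideal.mem_span_singleton_self f)⟩

theorem mem_radical_sup_smul {M : Type v} [AddCommGroup M] [Module P M] (J : Ideal P) (hJ : J.IsRadical) (f : P)
    (x : M) (hx : x ∈ (J ⊔ Ideal.span {f}).radical • (⊤ : Submodule P M)) :
    ∃ (N : ℕ) (j b : M), j ∈ J • (⊤ : Submodule P M) ∧ x = j + root p N f • b := by
  induction hx using Submodule.smul_induction_on' with
  | smul a ha m _ =>
    obtain ⟨N, j, b, hj, rfl⟩ := (mem_radical_sup_iff p J hJ f a).1 ha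
    exact ⟨N, j • m, b • m, Submodule.smul_mem_smul hj Submodule.mem_top, by rw [add_smul, mul_smul]⟩
  | add x _ y _ hx hy =>
    obtain ⟨N, j, b, hj, rfl⟩ := hx
    obtain ⟨N', j', b', hj', rfl⟩ := hy
    obtain ⟨c, hc⟩ := Rad.root_dvd_of_le p f (le_max_left N N')
    obtain ⟨c', hc'⟩ := Rad.root_dvd_of_le p f (le_max_right N N')
    refine ⟨max N N', j + j', c • b + c' • b', Submodule.add_mem _ hj hj', ?_⟩
    rw [hc, hc', smul_add, mul_smul, mul_smul]
    abel

section complex

variable (G : ℕ → Type v) [∀ n, AddCommGroup (G n)] [∀ n, Module P (G n)] [∀ n, Module.Flat P (G n)]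
 (d : ∀ n, G (n + 1) →ₗ[P] G n) {D : Type w} [CommRing D] [Algebra P D] (ε : G 0 →ₗ[P] D)

/-- exactness modulo `J` in positive degrees. -/
def E (J : Ideal P) : Prop := ∀ n (y : G (n + 1)), d n y ∈ J • (⊤ : Submodule P (G n)) →
  ∃ z : G (n + 2), y - d (n + 1) z ∈ J • (⊤ : Submodule P (G (n + 1)))

omit [CharP P p] [PerfectRing P p] in
/-- the property of the algebra `D` which is used. -/
theorem key_alg [CharP P p] [PerfectRing P p] (hD : Function.Bijective fun x : D => x ^ p) (J : Ideal P) (hJ : J.IsRadical) (f : P) (N : ℕ)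
    (x : D) (h : root p N f • x ∈ J • (⊤ : Submodule P D)) : root p (N + 1) f • x ∈ J • (⊤ : Submodule P D) := by
  rcases subsingleton_or_nontrivial D with hs | hs
  · rw [Subsingleton.elim (root p (N + 1) f • x) 0]; exact zero_mem _
  have hp : (p : D) = 0 := by rw [← map_natCast (algebraMap P D), CharP.cast_eq_zero, map_zero]
  have : CharP D p := (CharP.charP_iff_prime_eq_zero (Fact.out : p.Prime)).2 hp
  have : PerfectRing D p := ⟨hD⟩
  have h1 : (root p (N + 1) f • x) ^ p ∈ J • (⊤ : Submodule P D) := by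
    have h2 : (root p (N + 1) f • x) ^ p = x ^ (p - 1) * (root p N f • x) := by
      rw [smul_pow, root_succ, mul_smul_comm, ← pow_succ, Nat.sub_add_cancel (Fact.out : p.Prime).one_lt.le]
    rw [h2]
    obtain ⟨ι, _, j, g, hj, hs⟩ := (mem_smul_top_iff J _).1 h
    rw [hs, Finset.mul_sum]
    refine Submodule.sum_mem _ fun i _ => ?_
    rw [mul_smul_comm]
    exact Submodule.smul_mem_smul (hj i) Submodule.mem_top
  obtain ⟨ι, _, j, g, hj, hs⟩ := (mem_smul_top_iff J _).1 h1
  have h3 : root p (N + 1) f • x = ∑ i, root p 1 (j i) • root p 1 (g i) := by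
    apply pow_inj p 1
    rw [pow_one, hs, ← frobenius_def, map_sum]
    refine Finset.sum_congr rfl fun i _ => ?_
    have := root_pow p 1 (j i)
    have h' := root_pow p 1 (g i)
    rw [pow_one] at this h'
    rw [frobenius_def, smul_pow, this, h']
  rw [h3]
  exact Submodule.sum_mem _ fun i _ =>
    Submodule.smul_mem_smul (root_mem_of_isRadical p J hJ 1 (hj i)) Submodule.mem_top

variable (hε : Function.Surjective ε) (h0 : Function.Exact (d 0) ε) (hd : ∀ n, Function.Exact (d (n + 1)) (d n))
  (hD : Function.Bijective fun x : D => x ^ p)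

include hε h0 hd hD in
theorem step (J : Ideal P) (hJ : J.IsRadical) (f : P) (hE : E G d J) :
    E G d (J ⊔ Ideal.span {f}).radical := by
  intro n y hy
  have hle : J ≤ (J ⊔ Ideal.span {f}).radical := le_sup_left.trans Ideal.le_radical
  obtain ⟨N, j, z, hj, hjz⟩ := mem_radical_sup_smul p J hJ f _ hy
  -- the intermediate claim
  have claim : ∃ z' : G (n + 1), root p (N + 1) f • z - d n z' ∈ J • (⊤ : Submodule P (G n)) := by
    rcases n with _ | m
    · have h1 : root p N f • ε z ∈ J • (⊤ : Submodule P D) := by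
        have h2 : ε (d 0 y) = 0 := h0.apply_apply_eq_zero y
        rw [hjz, map_add, map_smul] at h2
        rw [← neg_eq_of_add_eq_zero_right h2]
        refine Submodule.neg_mem _ ?_
        have : ε j ∈ Submodule.map ε (J • (⊤ : Submodule P (G 0))) := ⟨j, hj, rfl⟩
        rw [Submodule.map_smul''] at this
        exact Submodule.smul_mono le_rfl le_top this
      have h3 := key_alg p hD J hJ f N _ h1
      rw [← map_smul] at h3
      have h4 : J • (⊤ : Submodule P D) = Submodule.map ε (J • (⊤ : Submodule P (G 0))) := by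
        rw [Submodule.map_smul'', Submodule.map_top, LinearMap.range_eq_top.2 hε]
      rw [h4] at h3
      obtain ⟨g, hg, hg'⟩ := h3
      have h5 : ε (root p (N + 1) f • z - g) = 0 := by rw [map_sub, hg', sub_self]
      obtain ⟨z', hz'⟩ := (h0 _).1 h5
      exact ⟨z', by rw [hz', sub_sub_cancel]; exact hg⟩
    · have h1 : root p N f • d m z ∈ J • (⊤ : Submodule P (G m)) := by
        have h2 : d m (d (m + 1) y) = 0 := (hd m).apply_apply_eq_zero y
        rw [hjz, map_add, map_smul] at h2
        rw [← neg_eq_of_add_eq_zero_right h2]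
        refine Submodule.neg_mem _ ?_
        have : d m j ∈ Submodule.map (d m) (J • (⊤ : Submodule P (G (m + 1)))) := ⟨j, hj, rfl⟩
        rw [Submodule.map_smul''] at this
        exact Submodule.smul_mono le_rfl le_top this
      have h3 := flat_key J (root p N f) (root p (N + 1) f) (fun a => key_ideal p J hJ f N a) _ h1
      rw [← map_smul] at h3
      exact hE m _ h3
  obtain ⟨z', hz'⟩ := claim
  have hroot : root p N f = root p (N + 1) f ^ (p - 1) * root p (N + 1) f := by
    rw [← pow_succ, Nat.sub_add_cancel (Fact.out : p.Prime).one_lt.le, root_succ]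
  have h6 : d n (y - root p (N + 1) f ^ (p - 1) • z') ∈ J • (⊤ : Submodule P (G n)) := by
    rw [map_sub, map_smul, hjz, hroot, mul_smul, add_sub_assoc, ← smul_sub]
    exact Submodule.add_mem _ hj (Submodule.smul_mem _ _ hz')
  obtain ⟨z'', hz''⟩ := hE n _ h6
  refine ⟨z'', ?_⟩
  have h7 : y - d (n + 1) z'' = (y - root p (N + 1) f ^ (p - 1) • z' - d (n + 1) z'') +
      root p (N + 1) f ^ (p - 1) • z' := by abel
  rw [h7]
  refine Submodule.add_mem _ (Submodule.smul_mono hle le_rfl hz'') (Submodule.smul_mem_smul ?_ Submodule.mem_top)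
  have hp : p - 1 = (p - 2) + 1 := by have := (Fact.out : p.Prime).two_le; omega
  rw [hp, pow_succ]
  refine Ideal.mul_mem_left _ _ ?_
  exact ⟨p ^ (N + 1), by rw [root_pow]; exact Ideal.mem_sup_right (Ideal.mem_span_singleton_self f)⟩

include hε h0 hd hD in
theorem finite_case (S : Finset P) : E G d (Ideal.span (S : Set P)).radical := by
  classical
  induction S using Finset.induction_on with
  | empty =>
    have hred := isReduced (A' := P) p
    have h1 : (Ideal.span ((∅ : Finset P) : Set P)).radical = ⊥ := by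
      rw [Finset.coe_empty, Ideal.span_empty]
      exact (nilradical_eq_zero P)
    rw [h1]
    intro n y hy
    rw [Submodule.bot_smul, Submodule.mem_bot] at hy
    obtain ⟨z, hz⟩ := (hd n y).1 hy
    exact ⟨z, by rw [hz, sub_self]; exact zero_mem _⟩
  | insert a S _ ih =>
    have h1 := step p G d ε hε h0 hd hD _ (Ideal.radical_isRadical _) a ih
    have h2 : ((Ideal.span (S : Set P)).radical ⊔ Ideal.span {a}).radical =
        (Ideal.span ((insert a S : Finset P) : Set P)).radical := by
      rw [Finset.coe_insert, Ideal.span_insert, sup_comm (Ideal.span {a})]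
      apply le_antisymm
      · rw [Ideal.radical_le_radical_iff]
        exact sup_le (Ideal.radical_mono le_sup_left) (le_sup_right.trans Ideal.le_radical)
      · exact Ideal.radical_mono (sup_le_sup_right Ideal.le_radical _)
    rwa [h2] at h1

include hε h0 hd hD in
/-- Flat resolutions of perfect algebras stay exact modulo radical ideals. -/
theorem main (J : Ideal P) (hJ : J.IsRadical) : E G d J := by
  classical
  intro n y hy
  obtain ⟨ι, _, j, g, hj, hs⟩ := (mem_smul_top_iff J _).1 hy
  have hle : (Ideal.span ((Finset.univ.image j : Finset P) : Set P)).radical ≤ J := by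
    refine hJ.radical_le_iff.2 (Ideal.span_le.2 ?_)
    intro x hx
    simp only [Finset.coe_image, Finset.coe_univ, Set.image_univ, Set.mem_range] at hx
    obtain ⟨i, rfl⟩ := hx
    exact hj i
  obtain ⟨z, hz⟩ := finite_case p G d ε hε h0 hd hD (Finset.univ.image j) n y (by
    rw [hs]
    refine Submodule.sum_mem _ fun i _ => Submodule.smul_mem_smul ?_ Submodule.mem_top
    exact Ideal.le_radical (Ideal.subset_span (by simp)))
  exact ⟨z, Submodule.smul_mono hle le_rfl hz⟩

end complex

end K674.PerfExact
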