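import Mathlib.Algebra.Category.Ring.FilteredColimits
import Mathlib.Algebra.Category.Ring.Colimits
import Mathlib.CategoryTheory.Presentable.Finite
import Mathlib.CategoryTheory.Limits.Preserves.Over
import Mathlib.CategoryTheory.Limits.Constructions.Over.Connected
import Mathlib.CategoryTheory.Limits.Types.Filtered
import Mathlib.CategoryTheory.ObjectProperty.FullSubcategory
import Mathlib.CategoryTheory.Limits.FullSubcategory
import Mathlib.CategoryTheory.WithTerminal.Cone

/-!
# Finitely presentable objects in full subcategories of algebras: sections over directed systems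
-/

set_option autoImplicit false
set_option linter.unusedSectionVars false
universe u

namespace K674.PerfFP

open CategoryTheory Limits

theorem nonempty_isColimit {B : CommRingCat.{u}} (Q : ObjectProperty (Under B)) {J : Type u} [SmallCategory J]
    [IsFiltered J] {D : J ⥤ Q.FullSubcategory} (c : Cocone D)
    (hsurj : ∀ x : c.pt.obj.right, ∃ (i : J) (xi : (D.obj i).obj.right), (c.ι.app i).hom.right xi = x)
    (hinj : ∀ (i : J) (x y : (D.obj i).obj.right), (c.ι.app i).hom.right x = (c.ι.app i).hom.right y →
      ∃ (k : J) (f : i ⟶ k), (D.map f).hom.right x = (D.map f).hom.right y) : Nonempty (IsColimit c) := by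
  have h1 : ReflectsColimitsOfShape J (Under.forget B) :=
    reflectsColimitsOfShape_of_reflectsIsomorphisms
  have h2 : ReflectsColimitsOfShape J (forget CommRingCat.{u}) :=
    reflectsColimitsOfShape_of_reflectsIsomorphisms
  have h3 : ReflectsColimitsOfShape J (Q.ι ⋙ Under.forget B ⋙ forget CommRingCat.{u}) := inferInstance
  refine ⟨isColimitOfReflects (Q.ι ⋙ Under.forget B ⋙ forget CommRingCat.{u}) ?_⟩
  refine Types.FilteredColimit.isColimitOf' _ _ ?_ ?_
  · intro x
    obtain ⟨i, xi, h⟩ := hsurj x
    exact ⟨i, xi, h.symm⟩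
  · intro i x y h
    exact hinj i x y h

theorem exists_section (p : ℕ) (B : CommRingCat.{u})
    (A : ObjectProperty.FullSubcategory fun Y : Under B => (p : Y.right) = 0 ∧ Function.Bijective fun y : Y.right => y ^ p)
    [IsFinitelyPresentable.{u} A]
    {I : Type u} [Preorder I] [IsDirectedOrder I] [Nonempty I]
    (R : I → Type u) [∀ i, CommRing (R i)] (β : ∀ i, B →+* R i)
    (t : ∀ i j, i ≤ j → R i →+* R j) (htid : ∀ i x, t i i le_rfl x = x)
    (htcomp : ∀ i j k (hij : i ≤ j) (hjk : j ≤ k) x, t j k hjk (t i j hij x) = t i k (hij.trans hjk) x)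
    (htβ : ∀ i j (h : i ≤ j) x, t i j h (β i x) = β j x)
    (φ : ∀ i, R i →+* A.obj.right) (hφ : ∀ i j (h : i ≤ j) x, φ j (t i j h x) = φ i x)
    (hφβ : ∀ i x, φ i (β i x) = A.obj.hom.hom x)
    (hR0 : ∀ i, (p : R i) = 0) (hR : ∀ i, Function.Bijective fun y : R i => y ^ p)
    (hsurj : ∀ a : A.obj.right, ∃ i x, φ i x = a)
    (hinj : ∀ i (x y : R i), φ i x = φ i y → ∃ (j : I) (h : i ≤ j), t i j h x = t i j h y) :
    ∃ i, ∃ s : A.obj.right →+* R i, (∀ b, s (A.obj.hom.hom b) = β i b) ∧ ∀ a, φ i (s a) = a := by
  let D : I ⥤ ObjectProperty.FullSubcategory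
      fun Y : Under B => (p : Y.right) = 0 ∧ Function.Bijective fun y : Y.right => y ^ p :=
    { obj := fun i => ⟨Under.mk (Y := CommRingCat.of (R i)) (CommRingCat.ofHom (β i)), hR0 i, hR i⟩
      map := fun {i j} h => ObjectProperty.homMk (Under.homMk (CommRingCat.ofHom (t i j (leOfHom h))) (by
        ext x
        exact htβ i j (leOfHom h) x))
      map_id := fun i => by
        apply ObjectProperty.hom_ext
        apply Under.UnderMorphism.ext
        ext x
        exact htid i x
      map_comp := fun {i j k} f g => by
        apply ObjectProperty.hom_ext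
        apply Under.UnderMorphism.ext
        ext x
        exact (htcomp i j k (leOfHom f) (leOfHom g) x).symm }
  let c : Cocone D :=
    { pt := A
      ι := { app := fun i => ObjectProperty.homMk (Under.homMk (CommRingCat.ofHom (φ i)) (by
              ext x
              exact hφβ i x))
             naturality := fun i j f => by
              apply ObjectProperty.hom_ext
              apply Under.UnderMorphism.ext
              ext x
              exact hφ i j (leOfHom f) x } }
  obtain ⟨hc⟩ := nonempty_isColimit _ c hsurj (fun i x y h => by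
    obtain ⟨j, hij, h'⟩ := hinj i x y h
    exact ⟨j, homOfLE hij, h'⟩)
  obtain ⟨i, s, hs⟩ := IsFinitelyPresentable.exists_hom_of_isColimit hc (𝟙 A)
  refine ⟨i, s.hom.right.hom, fun b => ?_, fun a => ?_⟩
  · have := congrArg (fun k => k.hom b) (Under.w s.hom)
    exact this
  · have := congrArg (fun k => k.hom.right.hom a) hs
    exact this

end K674.PerfFP
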