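import Groth.Agent.FrobAlg.K674.PerfFP
import Groth.Agent.FrobAlg.K674.Perf
import Mathlib.FieldTheory.PerfectClosure
import Mathlib.FieldTheory.IsPerfectClosure
import Mathlib.RingTheory.MvPolynomial.Basic
import Mathlib.Algebra.MvPolynomial.Eval
import Mathlib.RingTheory.FinitePresentation
import Mathlib.RingTheory.Adjoin.Basic
import Mathlib.RingTheory.Ideal.Quotient.Operations

/-!
# Finitely presentable perfect algebras are perfections of finitely presented algebras
-/

set_option autoImplicit false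
set_option linter.unusedSectionVars false
universe u v w

namespace K674.PerfFP

open CategoryTheory Limits K674.Perf

section sub

variable (p : ℕ) [Fact p.Prime] {A : Type u} [CommRing A] [CharP A p]

theorem mem_of_le {S : Type v} [SetLike S A] [SubringClass S A] (T : S) (a : A) {n m : ℕ} (h : n ≤ m)
    (ha : a ^ p ^ n ∈ T) : a ^ p ^ m ∈ T := by
  obtain ⟨k, rfl⟩ := Nat.exists_eq_add_of_le h
  rw [pow_add, pow_mul]
  exact pow_mem ha _

/-- the elements with some `p^n`-th power in a subring `T`. -/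
def perfSub (T : Subring A) : Subring A where
  carrier := {a | ∃ n, a ^ p ^ n ∈ T}
  mul_mem' := by
    rintro a b ⟨n, hn⟩ ⟨m, hm⟩
    refine ⟨max n m, ?_⟩
    rw [mul_pow]
    exact mul_mem (mem_of_le p T a (le_max_left _ _) hn) (mem_of_le p T b (le_max_right _ _) hm)
  one_mem' := ⟨0, by rw [one_pow]; exact one_mem _⟩
  add_mem' := by
    rintro a b ⟨n, hn⟩ ⟨m, hm⟩
    refine ⟨max n m, ?_⟩
    rw [add_pow_char_pow]
    exact add_mem (mem_of_le p T a (le_max_left _ _) hn) (mem_of_le p T b (le_max_right _ _) hm)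
  zero_mem' := ⟨0, by rw [pow_zero, pow_one]; exact zero_mem _⟩
  neg_mem' := by
    rintro a ⟨n, hn⟩
    refine ⟨n, ?_⟩
    rw [neg_pow]
    exact mul_mem (pow_mem (neg_mem (one_mem _)) _) hn

theorem mem_perfSub {T : Subring A} {a : A} : a ∈ perfSub p T ↔ ∃ n, a ^ p ^ n ∈ T := Iff.rfl

theorem le_perfSub (T : Subring A) : T ≤ perfSub p T := fun a ha => ⟨0, by rwa [pow_zero, pow_one]⟩

theorem perfSub_mono {T T' : Subring A} (h : T ≤ T') : perfSub p T ≤ perfSub p T' := fun _ ⟨n, hn⟩ => ⟨n, h hn⟩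

theorem bijective_perfSub [PerfectRing A p] (T : Subring A) :
    Function.Bijective fun x : perfSub p T => x ^ p := by
  constructor
  · intro x y h
    apply Subtype.ext
    have := congrArg Subtype.val h
    apply pow_inj p 1
    rw [pow_one]
    exact this
  · rintro ⟨x, n, hn⟩
    refine ⟨⟨root p 1 x, n + 1, ?_⟩, ?_⟩
    · have h1 := root_pow p 1 x
      rw [pow_succ', pow_mul]
      rw [pow_one] at h1
      rwa [h1]
    · apply Subtype.ext
      have h1 := root_pow p 1 x
      rw [pow_one] at h1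
      exact h1

end sub

section quot

variable (p : ℕ) [Fact p.Prime] {P : Type u} [CommRing P] [CharP P p] [PerfectRing P p]

theorem bijective_quot (J : Ideal P) (hJ : J.IsRadical) : Function.Bijective fun x : P ⧸ J => x ^ p := by
  constructor
  · intro x y h
    obtain ⟨x, rfl⟩ := Ideal.Quotient.mk_surjective x
    obtain ⟨y, rfl⟩ := Ideal.Quotient.mk_surjective y
    change (Ideal.Quotient.mk J x) ^ p = (Ideal.Quotient.mk J y) ^ p at h
    rw [← map_pow, ← map_pow, Ideal.Quotient.eq, ← sub_pow_char] at h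
    exact Ideal.Quotient.eq.2 (hJ ⟨p, h⟩)
  · intro x
    obtain ⟨x, rfl⟩ := Ideal.Quotient.mk_surjective x
    refine ⟨Ideal.Quotient.mk J (root p 1 x), ?_⟩
    have h1 := root_pow p 1 x
    rw [pow_one] at h1
    change (Ideal.Quotient.mk J (root p 1 x)) ^ p = _
    rw [← map_pow, h1]

end quot

section systems

variable (p : ℕ) [Fact p.Prime] (B : CommRingCat.{u})
    (A : ObjectProperty.FullSubcategory fun Y : Under B => (p : Y.right) = 0 ∧ Function.Bijective fun y : Y.right => y ^ p)
    [IsFinitelyPresentable.{u} A] {I : Type u} [Preorder I] [IsDirectedOrder I] [Nonempty I]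

theorem exists_mem_of_directed (T : I → Subring A.obj.right) (hT : Monotone T)
    (hperf : ∀ i, Function.Bijective fun x : T i => x ^ p) (hB : ∀ i b, A.obj.hom.hom b ∈ T i)
    (hsurj : ∀ a, ∃ i, a ∈ T i) : ∃ i, ∀ a, a ∈ T i := by
  have hp0 : (p : A.obj.right) = 0 := A.property.1
  obtain ⟨i, s, -, hs⟩ := exists_section p B A (I := I) (fun i => T i)
    (fun i => A.obj.hom.hom.codRestrict (T i) (hB i))
    (fun i j h => Subring.inclusion (hT h)) (fun _ _ => rfl) (fun _ _ _ _ _ _ => rfl)
    (fun _ _ _ _ => rfl) (fun i => (T i).subtype) (fun _ _ _ _ => rfl) (fun _ _ => rfl)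
    (fun i => Subtype.ext (by
      change ((p : T i) : A.obj.right) = 0
      rw [← hp0]; rfl)) hperf
    (fun a => by
      obtain ⟨i, hi⟩ := hsurj a
      exact ⟨i, ⟨a, hi⟩, rfl⟩)
    (fun i x y h => ⟨i, le_rfl, by rw [Subtype.ext h]⟩)
  refine ⟨i, fun a => ?_⟩
  have h1 : ((s a : T i) : A.obj.right) = a := hs a
  rw [← h1]
  exact (s a).2

theorem exists_section_of_directed {P : Type u} [CommRing P] [CharP P p] [PerfectRing P p] (π : P →+* A.obj.right)
    (hπ : Function.Surjective π) (K : I → Ideal P) (hK : Monotone K) (hrad : ∀ i, (K i).IsRadical)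
    (hle : ∀ i, K i ≤ RingHom.ker π) (hex : ∀ i, ∀ x ∈ RingHom.ker π, ∃ j, i ≤ j ∧ x ∈ K j)
    (β : B →+* P) (hβ : ∀ b, π (β b) = A.obj.hom.hom b) :
    ∃ i, ∃ s : A.obj.right →+* P ⧸ K i, (∀ b, s (A.obj.hom.hom b) = Ideal.Quotient.mk (K i) (β b)) ∧
      ∀ a, Ideal.Quotient.lift (K i) π (fun _ hx => hle i hx) (s a) = a :=
  exists_section p B A (I := I) (fun i => P ⧸ K i)
    (fun i => (Ideal.Quotient.mk (K i)).comp β)
    (fun i j h => Ideal.Quotient.factor (hK h)) (fun T x => by
      obtain ⟨x, rfl⟩ := Ideal.Quotient.mk_surjective x; rfl)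
    (fun _ _ _ _ _ x => by obtain ⟨x, rfl⟩ := Ideal.Quotient.mk_surjective x; rfl)
    (fun _ _ _ _ => rfl)
    (fun i => Ideal.Quotient.lift (K i) π (fun x hx => hle i hx))
    (fun _ _ _ x => by obtain ⟨x, rfl⟩ := Ideal.Quotient.mk_surjective x; rfl)
    (fun T x => hβ x)
    (fun T => by rw [← map_natCast (Ideal.Quotient.mk (K T)), CharP.cast_eq_zero, map_zero])
    (fun T => bijective_quot p _ (hrad T))
    (fun a => by
      obtain ⟨x, rfl⟩ := hπ a
      exact ⟨Classical.arbitrary I, Ideal.Quotient.mk _ x, rfl⟩)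
    (fun i x y h => by
      obtain ⟨x, rfl⟩ := Ideal.Quotient.mk_surjective x
      obtain ⟨y, rfl⟩ := Ideal.Quotient.mk_surjective y
      have hxy : x - y ∈ RingHom.ker π := by
        rw [RingHom.mem_ker, map_sub, sub_eq_zero]
        exact h
      obtain ⟨j, hij, hj⟩ := hex i _ hxy
      exact ⟨j, hij, Ideal.Quotient.eq.2 hj⟩)

end systems

section step1

variable (p : ℕ) [Fact p.Prime] (B : CommRingCat.{u})
    (A : ObjectProperty.FullSubcategory fun Y : Under B => (p : Y.right) = 0 ∧ Function.Bijective fun y : Y.right => y ^ p)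
    [IsFinitelyPresentable.{u} A] [CharP A.obj.right p] [PerfectRing A.obj.right p]

/-- A finitely presentable perfect algebra is perfectly of finite type. -/
theorem exists_finset : ∃ S : Finset A.obj.right, ∀ a : A.obj.right, ∃ (n : ℕ) (r : MvPolynomial S B),
    MvPolynomial.eval₂ A.obj.hom.hom (fun s : S => (s : A.obj.right)) r = a ^ p ^ n := by
  classical
  let _ : Algebra B A.obj.right := A.obj.hom.hom.toAlgebra
  let T : Finset A.obj.right → Subring A.obj.right := fun S =>
    (Algebra.adjoin B (S : Set A.obj.right)).toSubring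
  have hTmono : ∀ {S S' : Finset A.obj.right}, S ≤ S' → T S ≤ T S' := fun h =>
    Algebra.adjoin_mono (Finset.coe_subset.2 h)
  have hT : ∀ S b, A.obj.hom.hom b ∈ T S := fun S b => (Algebra.adjoin B (S : Set A.obj.right)).algebraMap_mem b
  obtain ⟨S, hS⟩ := exists_mem_of_directed p B A (I := Finset A.obj.right) (fun S => perfSub p (T S))
    (fun i j h => perfSub_mono p (hTmono h)) (fun S => bijective_perfSub p _) (fun S b => le_perfSub p _ (hT S b))
    (fun a => ⟨{a}, le_perfSub p _ (Algebra.subset_adjoin (by simp))⟩)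
  refine ⟨S, fun a => ?_⟩
  obtain ⟨n, hn⟩ := hS a
  change a ^ p ^ n ∈ Algebra.adjoin B (S : Set A.obj.right) at hn
  rw [Algebra.adjoin_eq_range] at hn
  obtain ⟨r, hr⟩ := hn
  exact ⟨n, r, hr⟩

end step1

section step2

variable (p : ℕ) [Fact p.Prime] (B : CommRingCat.{u}) [CharP B p]
    (A : ObjectProperty.FullSubcategory fun Y : Under B => (p : Y.right) = 0 ∧ Function.Bijective fun y : Y.right => y ^ p)
    [IsFinitelyPresentable.{u} A] [CharP A.obj.right p] [PerfectRing A.obj.right p]

theorem exists_kernel (σ : Type u) [Finite σ] (ev : MvPolynomial σ B →+* A.obj.right)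
    (hev : ∀ b, ev (MvPolynomial.C b) = A.obj.hom.hom b)
    (hσ : ∀ a, ∃ (n : ℕ) (r : MvPolynomial σ B), ev r = a ^ p ^ n)
    {P : Type u} [CommRing P] [CharP P p] [PerfectRing P p] (j : MvPolynomial σ B →+* P) [IsPRadical j p]
    (π : P →+* A.obj.right) (hπj : ∀ x, π (j x) = ev x) :
    ∃ T : Finset P, RingHom.ker π = (Ideal.span (T : Set P)).radical := by
  classical
  have := Fintype.ofFinite σ
  have hred : IsReduced A.obj.right := isReduced p
  have hrad : (RingHom.ker π).IsRadical := by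
    intro x ⟨m, hm⟩
    rw [RingHom.mem_ker, map_pow] at hm
    rw [RingHom.mem_ker]
    exact eq_zero_of_pow_eq_zero hm
  have hπ : Function.Surjective π := by
    intro a
    obtain ⟨n, r, hr⟩ := hσ a
    refine ⟨root p n (j r), ?_⟩
    rw [map_root, hπj, hr, root_pow']
  let K : Finset (RingHom.ker π) → Ideal P := fun T => (Ideal.span (Subtype.val '' (T : Set (RingHom.ker π)))).radical
  have hK : ∀ T, K T ≤ RingHom.ker π := fun T => hrad.radical_le_iff.2 (Ideal.span_le.2 (by
    rintro _ ⟨x, _, rfl⟩; exact x.2))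
  have hmono : ∀ {T T'}, T ≤ T' → K T ≤ K T' := fun h =>
    Ideal.radical_mono (Ideal.span_mono (Set.image_mono (Finset.coe_subset.2 h)))
  have hmem : ∀ {T : Finset (RingHom.ker π)} {x : RingHom.ker π}, x ∈ T → (x : P) ∈ K T := fun {T x} h =>
    Ideal.le_radical (Ideal.subset_span ⟨x, h, rfl⟩)
  obtain ⟨T, s, hs1, hs2⟩ := exists_section_of_directed p B A (I := Finset (RingHom.ker π)) π hπ K
    (fun i j h => hmono h) (fun T => Ideal.radical_isRadical _) hK
    (fun T x hx => ⟨insert ⟨x, hx⟩ T, Finset.subset_insert _ _, hmem (x := ⟨x, hx⟩) (Finset.mem_insert_self _ _)⟩)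
    (j.comp MvPolynomial.C) (fun b => by rw [RingHom.comp_apply, hπj, hev])
  -- enlarge `T` so that the section becomes an inverse
  choose u hu using fun i : σ => Ideal.Quotient.mk_surjective (s (π (j (MvPolynomial.X i))))
  have hu' : ∀ i, u i - j (MvPolynomial.X i) ∈ RingHom.ker π := fun i => by
    rw [RingHom.mem_ker, map_sub, sub_eq_zero]
    have h1 : Ideal.Quotient.lift (K T) π (fun x hx => hK T hx) (Ideal.Quotient.mk (K T) (u i)) = π (u i) := rfl
    rw [← h1, hu, hs2]
  let T' : Finset (RingHom.ker π) := T ∪ Finset.univ.image (fun i => ⟨u i - j (MvPolynomial.X i), hu' i⟩)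
  have hTT' : T ≤ T' := Finset.subset_union_left
  let s' : A.obj.right →+* P ⧸ K T' := (Ideal.Quotient.factor (hmono hTT')).comp s
  have e1 : (s'.comp π).comp j = (Ideal.Quotient.mk (K T')).comp j := by
    apply MvPolynomial.ringHom_ext
    · intro b
      change Ideal.Quotient.factor (hmono hTT') (s (π (j (MvPolynomial.C b)))) = _
      rw [hπj, hev, hs1]
      rfl
    · intro i
      change Ideal.Quotient.factor (hmono hTT') (s (π (j (MvPolynomial.X i)))) = _
      rw [← hu]
      refine Ideal.Quotient.eq.2 (hmem (x := ⟨u i - j (MvPolynomial.X i), hu' i⟩) ?_)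
      exact Finset.mem_union_right _ (Finset.mem_image.2 ⟨i, Finset.mem_univ _, rfl⟩)
  have hpow : ∀ (n : ℕ) (x y : P ⧸ K T'), x ^ p ^ n = y ^ p ^ n → x = y := by
    intro n
    induction n with
    | zero => intro x y h; rwa [pow_zero, pow_one, pow_one] at h
    | succ n ih =>
      intro x y h
      rw [pow_succ, pow_mul, pow_mul] at h
      exact ih x y ((bijective_quot p _ (Ideal.radical_isRadical _)).1 h)
  have e2 : ∀ x, s' (π x) = Ideal.Quotient.mk (K T') x := by
    intro x
    obtain ⟨n, y, hy⟩ := IsPRadical.pow_mem j p x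
    apply hpow n
    rw [← map_pow, ← map_pow, ← map_pow, ← hy]
    exact congr($e1 y)
  refine ⟨T'.image Subtype.val, le_antisymm ?_ ?_⟩
  · intro x hx
    have h1 := e2 x
    rw [RingHom.mem_ker.1 hx, map_zero] at h1
    rw [Finset.coe_image]
    exact Ideal.Quotient.eq_zero_iff_mem.1 h1.symm
  · rw [Finset.coe_image]
    exact hK T'

theorem exists_model : ∃ (A₀ : Type u) (_ : CommRing A₀) (_ : Algebra B A₀) (_ : Algebra.FinitePresentation B A₀)
      (k : A₀ →+* A.obj.right), k.comp (algebraMap B A₀) = A.obj.hom.hom ∧ IsPRadical k p := by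
  classical
  obtain ⟨S, hS⟩ := exists_finset p B A
  let R := MvPolynomial S B
  let ev : R →+* A.obj.right := MvPolynomial.eval₂Hom A.obj.hom.hom (fun s : S => (s : A.obj.right))
  have hev : ∀ b, ev (MvPolynomial.C b) = A.obj.hom.hom b := fun b => MvPolynomial.eval₂_C _ _ _
  let j : R →+* PerfectClosure R p := PerfectClosure.of R p
  let π : PerfectClosure R p →+* A.obj.right := PerfectClosure.lift R p A.obj.right ev
  have hπj : ∀ x, π (j x) = ev x := fun x => by
    have := (PerfectClosure.lift R p A.obj.right).symm_apply_apply ev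
    exact congr($this x)
  obtain ⟨T, hT⟩ := exists_kernel p B A S ev hev hS j π hπj
  choose m r hr using fun t : T => IsPRadical.pow_mem j p (t : PerfectClosure R p)
  let 𝔯 : Ideal R := Ideal.span (Set.range r)
  have hfg : 𝔯.FG := ⟨Finset.univ.image r, by rw [Finset.coe_image, Finset.coe_univ, Set.image_univ]⟩
  have hle : ∀ x ∈ 𝔯, ev x = 0 := by
    intro x hx
    have : 𝔯 ≤ RingHom.ker ev := by
      refine Ideal.span_le.2 ?_
      rintro _ ⟨t, rfl⟩
      have h1 : (t : PerfectClosure R p) ∈ RingHom.ker π := by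
        rw [hT]; exact Ideal.le_radical (Ideal.subset_span t.2)
      change ev (r t) = 0
      rw [← hπj, hr, map_pow, RingHom.mem_ker.1 h1, zero_pow (pow_ne_zero _ (Fact.out : p.Prime).ne_zero)]
    exact this hx
  refine ⟨R ⧸ 𝔯, inferInstance, inferInstance, Algebra.FinitePresentation.quotient hfg,
    Ideal.Quotient.lift 𝔯 ev hle, ?_, ?_, ?_⟩
  · ext b
    exact hev b
  · intro a
    obtain ⟨n, q, hq⟩ := hS a
    exact ⟨n, Ideal.Quotient.mk _ q, hq⟩
  · intro x hx
    obtain ⟨x, rfl⟩ := Ideal.Quotient.mk_surjective x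
    have hx0 : ev x = 0 := hx
    rw [pNilradical_prime (Fact.out : p.Prime), mem_nilradical]
    have key : x ∈ 𝔯.radical := by
      rw [Ideal.radical_eq_sInf, Ideal.mem_sInf]
      rintro 𝔮 ⟨h𝔮, hprime⟩
      obtain ⟨𝔓, h𝔓⟩ := (isHomeomorph_comap_of_isPRadical p j).bijective.2 ⟨𝔮, hprime⟩
      have h𝔓' : 𝔮 = 𝔓.asIdeal.comap j := by rw [← PrimeSpectrum.comap_asIdeal, h𝔓]
      rw [h𝔓', Ideal.mem_comap]
      have h1 : RingHom.ker π ≤ 𝔓.asIdeal := by
        rw [hT]
        refine 𝔓.isPrime.isRadical.radical_le_iff.2 (Ideal.span_le.2 ?_)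
        intro t ht
        have h2 : j (r ⟨t, ht⟩) ∈ 𝔓.asIdeal := by
          rw [← Ideal.mem_comap, ← h𝔓']
          exact h𝔮 (Ideal.subset_span ⟨_, rfl⟩)
        rw [hr] at h2
        exact 𝔓.isPrime.mem_of_pow_mem _ h2
      apply h1
      rw [RingHom.mem_ker, hπj, hx0]
    obtain ⟨N, hN⟩ := key
    refine ⟨N, ?_⟩
    rw [← map_pow]
    exact Ideal.Quotient.eq_zero_iff_mem.2 hN

end step2

end K674.PerfFP
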