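import Groth.Agent.FrobAlg.K674.PerfExact
import Mathlib.FieldTheory.PerfectClosure
import Mathlib.FieldTheory.IsPerfectClosure
import Mathlib.Algebra.Category.Ring.Constructions
import Mathlib.LinearAlgebra.TensorProduct.RightExactness
import Mathlib.Algebra.MvPolynomial.Basic
import Mathlib.RingTheory.MvPolynomial.Basic
import Mathlib.Algebra.MvPolynomial.Eval
import Mathlib.RingTheory.Flat.Stability

/-!
# Tor-independence of perfect rings
-/

set_option autoImplicit false
set_option linter.unusedSectionVars false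
universe u v w

namespace K674.PerfTor

open K674.Perf TensorProduct CategoryTheory

section tensor

variable (p : ℕ) [Fact p.Prime] {A P C : Type u} [CommRing A] [CommRing P] [CommRing C] [Algebra A P]
  [Algebra A C] [CharP A p] [PerfectRing A p]

/-- the `p`-th power map on a tensor product of perfect rings over a perfect ring is bijective. -/
theorem bijective_pow_tensor (hP : Function.Bijective fun x : P => x ^ p)
    (hC : Function.Bijective fun x : C => x ^ p) : Function.Bijective fun x : P ⊗[A] C => x ^ p := by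
  rcases subsingleton_or_nontrivial (P ⊗[A] C) with hs | hs
  · exact ⟨fun _ _ _ => Subsingleton.elim _ _, fun x => ⟨x, Subsingleton.elim _ _⟩⟩
  have hp : (p : P ⊗[A] C) = 0 := by
    rw [← map_natCast (algebraMap A (P ⊗[A] C)), CharP.cast_eq_zero, map_zero]
  have : CharP (P ⊗[A] C) p := (CharP.charP_iff_prime_eq_zero (Fact.out : p.Prime)).2 hp
  have hPn : Nontrivial P := by
    by_contra hcon
    rw [not_nontrivial_iff_subsingleton] at hcon
    exact one_ne_zero (α := P ⊗[A] C) (by
      rw [← map_one (Algebra.TensorProduct.includeLeftRingHom : P →+* P ⊗[A] C), Subsingleton.elim (1 : P) 0, map_zero])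
  have hCn : Nontrivial C := by
    by_contra hcon
    rw [not_nontrivial_iff_subsingleton] at hcon
    exact one_ne_zero (α := P ⊗[A] C) (by
      rw [← map_one (Algebra.TensorProduct.includeRight : C →ₐ[A] P ⊗[A] C), Subsingleton.elim (1 : C) 0, map_zero])
  have hp1 : (p : P) = 0 := by rw [← map_natCast (algebraMap A P), CharP.cast_eq_zero, map_zero]
  have hp2 : (p : C) = 0 := by rw [← map_natCast (algebraMap A C), CharP.cast_eq_zero, map_zero]
  have : CharP P p := (CharP.charP_iff_prime_eq_zero (Fact.out : p.Prime)).2 hp1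
  have : CharP C p := (CharP.charP_iff_prime_eq_zero (Fact.out : p.Prime)).2 hp2
  have : PerfectRing P p := ⟨hP⟩
  have : PerfectRing C p := ⟨hC⟩
  have hpo := CommRingCat.isPushout_tensorProduct A P C
  let f : CommRingCat.of P ⟶ CommRingCat.of (P ⊗[A] C) :=
    CommRingCat.ofHom (Algebra.TensorProduct.includeLeftRingHom.comp (root (A' := P) p 1).toRingHom)
  let g : CommRingCat.of C ⟶ CommRingCat.of (P ⊗[A] C) :=
    CommRingCat.ofHom ((Algebra.TensorProduct.includeRight (R := A) (A := P) (B := C)).toRingHom.comp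
      (root (A' := C) p 1).toRingHom)
  have hfg : CommRingCat.ofHom (algebraMap A P) ≫ f = CommRingCat.ofHom (algebraMap A C) ≫ g := by
    ext a
    change (root p 1 (algebraMap A P a)) ⊗ₜ[A] (1 : C) = (1 : P) ⊗ₜ[A] (root p 1 (algebraMap A C a))
    rw [← map_root p (algebraMap A P), ← map_root p (algebraMap A C)]
    rw [Algebra.algebraMap_eq_smul_one, Algebra.algebraMap_eq_smul_one, TensorProduct.smul_tmul]
  let τ : CommRingCat.of (P ⊗[A] C) ⟶ CommRingCat.of (P ⊗[A] C) := hpo.desc f g hfg
  have h1 : ∀ x : P, τ.hom (x ⊗ₜ[A] (1 : C)) = (root p 1 x) ⊗ₜ[A] (1 : C) := fun x =>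
    congrArg (fun k : CommRingCat.of P ⟶ CommRingCat.of (P ⊗[A] C) => k.hom x) (hpo.inl_desc f g hfg)
  have h2 : ∀ x : C, τ.hom ((1 : P) ⊗ₜ[A] x) = (1 : P) ⊗ₜ[A] (root p 1 x) := fun x =>
    congrArg (fun k : CommRingCat.of C ⟶ CommRingCat.of (P ⊗[A] C) => k.hom x) (hpo.inr_desc f g hfg)
  have r1 : ∀ x : P, root p 1 (x ^ p) = x := fun x => by
    have := root_pow' p 1 x
    rwa [pow_one] at this
  have r2 : ∀ x : C, root p 1 (x ^ p) = x := fun x => by
    have := root_pow' p 1 x
    rwa [pow_one] at this
  have h3 : ∀ z : P ⊗[A] C, τ.hom (z ^ p) = z := by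
    intro z
    induction z using TensorProduct.induction_on with
    | zero => rw [zero_pow (Fact.out : p.Prime).ne_zero, map_zero]
    | tmul x c =>
      have h4 : (x ⊗ₜ[A] c) ^ p = ((x ^ p) ⊗ₜ[A] (1 : C)) * ((1 : P) ⊗ₜ[A] (c ^ p)) := by
        rw [Algebra.TensorProduct.tmul_pow, Algebra.TensorProduct.tmul_mul_tmul, one_mul, mul_one]
      rw [h4, map_mul, h1, h2, r1, r2, Algebra.TensorProduct.tmul_mul_tmul, one_mul, mul_one]
    | add x y hx hy => rw [add_pow_char, map_add, hx, hy]
  refine ⟨fun x y hxy => ?_, fun z => ?_⟩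
  · rw [← h3 x, ← h3 y]
    exact congrArg _ hxy
  · induction z using TensorProduct.induction_on with
    | zero => exact ⟨0, zero_pow (Fact.out : p.Prime).ne_zero⟩
    | tmul x c =>
      obtain ⟨x', hx'⟩ := hP.2 x
      obtain ⟨c', hc'⟩ := hC.2 c
      refine ⟨x' ⊗ₜ c', ?_⟩
      change (x' ⊗ₜ[A] c') ^ p = _
      rw [Algebra.TensorProduct.tmul_pow]
      exact congr(($hx') ⊗ₜ[A] ($hc'))
    | add x y hx hy =>
      obtain ⟨x', rfl⟩ := hx
      obtain ⟨y', rfl⟩ := hy
      exact ⟨x' + y', add_pow_char _ _ _⟩

end tensor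

section main

variable (p : ℕ) [Fact p.Prime] {A B C : Type u} [CommRing A] [CommRing B] [CommRing C] [Algebra A B]
  [Algebra A C] [CharP A p] [PerfectRing A p]

/-- every perfect `A`-algebra is a quotient of a flat perfect `A`-algebra. -/
theorem exists_flat_cover [CharP B p] [PerfectRing B p] : ∃ (P : Type u) (_ : CommRing P) (_ : Algebra A P)
    (_ : CharP P p) (_ : PerfectRing P p) (_ : Module.Flat A P) (π : P →ₐ[A] B), Function.Surjective π := by
  let R := MvPolynomial B A
  let j : R →+* PerfectClosure R p := PerfectClosure.of R p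
  let _ : Algebra A (PerfectClosure R p) := (j.comp (algebraMap A R)).toAlgebra
  have : IsPerfectClosure (RingHom.id A) p := inferInstance
  have hflat : (j.comp (algebraMap A R)).Flat :=
    K674.Perf.flat p (algebraMap A R) (RingHom.id A) j (j.comp (algebraMap A R)) (by rfl)
      (by rw [RingHom.flat_algebraMap_iff]; infer_instance)
  have hflat' : Module.Flat A (PerfectClosure R p) := hflat
  let π₀ : R →+* B := (MvPolynomial.aeval (R := A) (fun b : B => b)).toRingHom
  have hπ₀ : ∀ x : R, PerfectClosure.lift R p B π₀ (j x) = π₀ x := fun x => by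
    have := (PerfectClosure.lift R p B).symm_apply_apply π₀
    exact congr($this x)
  refine ⟨PerfectClosure R p, inferInstance, inferInstance, inferInstance, inferInstance, hflat',
    { PerfectClosure.lift R p B π₀ with
      commutes' := fun a => ?_ }, fun b => ⟨j (MvPolynomial.X b), ?_⟩⟩
  · change PerfectClosure.lift R p B π₀ (j (algebraMap A R a)) = _
    rw [hπ₀]
    exact AlgHom.commutes _ _
  · change PerfectClosure.lift R p B π₀ (j (MvPolynomial.X b)) = _
    rw [hπ₀]
    exact MvPolynomial.aeval_X _ _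

/-- For an algebra surjection `π : P → B`, the kernel of `P ⊗ X → B ⊗ X`. -/
theorem ker_rTensor_iff {P : Type u} [CommRing P] [Algebra A P] (π : P →ₐ[A] B)
    (hπ : Function.Surjective π) (X : Type v) [AddCommGroup X] [Module A X] (y : P ⊗[A] X) :
    LinearMap.rTensor X π.toLinearMap y = 0 ↔ y ∈ (RingHom.ker π) • (⊤ : Submodule P (P ⊗[A] X)) := by
  constructor
  · intro h
    let ι : (LinearMap.ker π.toLinearMap) →ₗ[A] P := (LinearMap.ker π.toLinearMap).subtype
    have hex : Function.Exact ι π.toLinearMap := by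
      intro x
      constructor
      · intro hx; exact ⟨⟨x, hx⟩, rfl⟩
      · rintro ⟨x, rfl⟩; exact x.2
    obtain ⟨z, rfl⟩ := (rTensor_exact X hex hπ y).1 h
    clear h
    induction z using TensorProduct.induction_on with
    | zero => rw [map_zero]; exact zero_mem _
    | tmul x c =>
      have h4 : LinearMap.rTensor X ι (x ⊗ₜ[A] c) = (x : P) • ((1 : P) ⊗ₜ[A] c) := by
        rw [LinearMap.rTensor_tmul, TensorProduct.smul_tmul', smul_eq_mul, mul_one]; rfl
      rw [h4]
      exact Submodule.smul_mem_smul x.2 Submodule.mem_top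
    | add x y hx hy => rw [map_add]; exact Submodule.add_mem _ hx hy
  · intro h
    induction h using Submodule.smul_induction_on' with
    | smul a ha m _ =>
      induction m using TensorProduct.induction_on with
      | zero => rw [smul_zero, map_zero]
      | tmul x c =>
        rw [TensorProduct.smul_tmul', LinearMap.rTensor_tmul, smul_eq_mul]
        change (π (a * x)) ⊗ₜ[A] c = 0
        rw [map_mul, show π a = 0 from ha, zero_mul, TensorProduct.zero_tmul]
      | add x y hx hy =>
        rw [smul_add, map_add, hx Submodule.mem_top, hy Submodule.mem_top, add_zero]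
    | add x _ y _ hx hy => rw [map_add, hx, hy, add_zero]

/-- Tensoring a flat resolution of a perfect algebra `C` with a perfect algebra `B` is exact in positive degrees. -/
theorem exact_lTensor (hB : Function.Bijective fun b : B => b ^ p) (hC : Function.Bijective fun c : C => c ^ p)
    (X : ℕ → Type u) [∀ n, AddCommGroup (X n)] [∀ n, Module A (X n)] [∀ n, Module.Flat A (X n)]
    (δ : ∀ n, X (n + 1) →ₗ[A] X n) (ε : X 0 →ₗ[A] C) (hε : Function.Surjective ε)
    (h0 : Function.Exact (δ 0) ε) (hδ : ∀ n, Function.Exact (δ (n + 1)) (δ n)) (n : ℕ) :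
    Function.Exact (LinearMap.lTensor B (δ (n + 1))) (LinearMap.lTensor B (δ n)) := by
  have hle : ∀ x, LinearMap.lTensor B (δ n) (LinearMap.lTensor B (δ (n + 1)) x) = 0 := fun x => by
    rw [← LinearMap.comp_apply, ← LinearMap.lTensor_comp, (hδ n).linearMap_comp_eq_zero, LinearMap.lTensor_zero,
      LinearMap.zero_apply]
  intro b
  refine ⟨fun hb => ?_, by rintro ⟨x, rfl⟩; exact hle x⟩
  rcases subsingleton_or_nontrivial B with hs | hs
  · refine ⟨0, ?_⟩
    have : Subsingleton (B ⊗[A] X (n + 1)) := inferInstance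
    exact Subsingleton.elim _ _
  have hp1 : (p : B) = 0 := by rw [← map_natCast (algebraMap A B), CharP.cast_eq_zero, map_zero]
  have : CharP B p := (CharP.charP_iff_prime_eq_zero (Fact.out : p.Prime)).2 hp1
  have : PerfectRing B p := ⟨hB⟩
  obtain ⟨P, _, _, _, _, _, π, hπ⟩ := exists_flat_cover (A := A) (B := B) p
  have hJ : (RingHom.ker π).IsRadical := by
    have hred := isReduced (A' := B) p
    intro x ⟨m, hm⟩
    rw [RingHom.mem_ker, map_pow] at hm
    rw [RingHom.mem_ker]
    exact eq_zero_of_pow_eq_zero hm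
  have hex : ∀ {U V W : Type u} [AddCommGroup U] [AddCommGroup V] [AddCommGroup W] [Module A U] [Module A V]
      [Module A W] (f : U →ₗ[A] V) (g : V →ₗ[A] W), Function.Exact f g →
      Function.Exact (f.baseChange P) (g.baseChange P) := fun f g h =>
    Module.Flat.lTensor_exact P h
  obtain ⟨y, rfl⟩ := LinearMap.rTensor_surjective (X (n + 1)) (show Function.Surjective π.toLinearMap from hπ) b
  have hcomm : ∀ m (z : P ⊗[A] X (m + 1)), LinearMap.rTensor (X m) π.toLinearMap ((δ m).baseChange P z) =
      LinearMap.lTensor B (δ m) (LinearMap.rTensor (X (m + 1)) π.toLinearMap z) := fun m z => by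
    induction z using TensorProduct.induction_on with
    | zero => simp only [map_zero]
    | tmul x c => rfl
    | add x y hx hy => simp only [map_add, hx, hy]
  have h1 : (δ n).baseChange P y ∈ (RingHom.ker π) • (⊤ : Submodule P (P ⊗[A] X n)) := by
    rw [← ker_rTensor_iff π hπ, hcomm, hb]
  obtain ⟨z, hz⟩ := K674.PerfExact.main p (fun n => P ⊗[A] X n) (fun n => (δ n).baseChange P) (ε.baseChange P)
    (by
      change Function.Surjective (LinearMap.lTensor P ε)
      exact LinearMap.lTensor_surjective P hε)
    (hex _ _ h0) (fun n => hex _ _ (hδ n))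
    (bijective_pow_tensor p (bijective_frobenius P p) hC) (RingHom.ker π) hJ n y h1
  rw [← ker_rTensor_iff π hπ, map_sub, sub_eq_zero, hcomm] at hz
  exact ⟨_, hz.symm⟩

end main

end K674.PerfTor
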