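import Mathlib.FieldTheory.Perfect
import Mathlib.RingTheory.MvPolynomial.Basic
import Mathlib.RingTheory.Ideal.Quotient.Operations
import Mathlib.RingTheory.Polynomial.Basic
import Mathlib.Algebra.MvPolynomial.CommRing
import Mathlib.FieldTheory.Finite.Polynomial
import Mathlib.Algebra.CharP.Lemmas

/-!
The polynomial `Δ = ((∑ t_i)^p - ∑ t_i^p) / p` and its non-vanishing modulo
`(∑ x_i y_i, x_i^p, y_i^p)` when there are at least three pairs of variables.
-/

set_option autoImplicit false
universe u v w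

open MvPolynomial

namespace K674.Quadric

set_option linter.unusedSectionVars false

variable (p : ℕ) [hp : Fact p.Prime]

/-- existence of the divided polynomial -/
theorem exists_delta (σ : Type w) [Fintype σ] : ∃ Δ : MvPolynomial σ ℤ,
    (∑ i, (X i : MvPolynomial σ ℤ)) ^ p - ∑ i, (X i) ^ p = C (p : ℤ) * Δ := by
  have h : (C (p : ℤ) : MvPolynomial σ ℤ) ∣ (∑ i, (X i : MvPolynomial σ ℤ)) ^ p - ∑ i, (X i) ^ p := by
    rw [MvPolynomial.C_dvd_iff_zmod]
    rw [map_sub, map_pow, map_sum, map_sum]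
    simp only [map_pow, map_X]
    rw [sum_pow_char p, sub_self]
  obtain ⟨Δ, hΔ⟩ := h
  exact ⟨Δ, hΔ⟩

noncomputable def delta (σ : Type w) [Fintype σ] : MvPolynomial σ ℤ := (exists_delta p σ).choose

theorem delta_spec (σ : Type w) [Fintype σ] :
    (∑ i, (X i : MvPolynomial σ ℤ)) ^ p - ∑ i, (X i) ^ p = C (p : ℤ) * delta p σ :=
  (exists_delta p σ).choose_spec

theorem delta_eval {S : Type v} [CommRing S] (σ : Type w) [Fintype σ] (t : σ → S) :
    (∑ i, t i) ^ p - ∑ i, (t i) ^ p = (p : S) * aeval t (delta p σ) := by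
  have := congrArg (aeval t) (delta_spec p σ)
  simpa using this

section E

variable (k : Type u) [Field k] (n : ℕ)

/-- the torus-invariant part `k[x,y] → k[t]`, `x^a y^b ↦ t^a` if `a = b` and `0` otherwise. -/
noncomputable def E : MvPolynomial (Fin n × Fin 2) k →ₗ[k] MvPolynomial (Fin n) k :=
  (basisMonomials (Fin n × Fin 2) k).constr k fun s =>
    if ∀ i, s (i, 0) = s (i, 1) then monomial (Finsupp.equivFunOnFinite.symm fun i => s (i, 0)) 1 else 0

theorem E_monomial (s : Fin n × Fin 2 →₀ ℕ) (c : k) : E k n (monomial s c) =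
    c • (if ∀ i, s (i, 0) = s (i, 1) then monomial (Finsupp.equivFunOnFinite.symm fun i => s (i, 0)) 1 else 0) := by
  have h : (monomial s c : MvPolynomial (Fin n × Fin 2) k) = c • (basisMonomials (Fin n × Fin 2) k s) := by
    rw [coe_basisMonomials, smul_monomial, smul_eq_mul, mul_one]
  rw [h, map_smul, E, Module.Basis.constr_basis]

theorem E_mul (i : Fin n) (g : MvPolynomial (Fin n × Fin 2) k) :
    E k n (X (i, 0) * X (i, 1) * g) = X i * E k n g := by
  induction g using MvPolynomial.induction_on' with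
  | monomial s c =>
    have h1 : (X (i, 0) * X (i, 1) * monomial s c : MvPolynomial (Fin n × Fin 2) k) =
        monomial (Finsupp.single (i, 0) 1 + Finsupp.single (i, 1) 1 + s) c := by
      rw [X, X, monomial_mul, monomial_mul, mul_one, one_mul]
    rw [h1, E_monomial, E_monomial]
    have h2 : (∀ j, (Finsupp.single (i, (0 : Fin 2)) 1 + Finsupp.single (i, (1 : Fin 2)) 1 + s : Fin n × Fin 2 →₀ ℕ) (j, 0) =
        (Finsupp.single (i, (0 : Fin 2)) 1 + Finsupp.single (i, (1 : Fin 2)) 1 + s : Fin n × Fin 2 →₀ ℕ) (j, 1)) ↔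
        ∀ j, s (j, 0) = s (j, 1) := by
      refine forall_congr' fun j => ?_
      by_cases hj : i = j
      · subst hj; simp
      · simp [Finsupp.single_apply, hj]
    by_cases h3 : ∀ j, s (j, 0) = s (j, 1)
    · rw [if_pos h3, if_pos (h2.2 h3), mul_smul_comm, X, monomial_mul, mul_one]
      have h4 : (Finsupp.equivFunOnFinite.symm fun l => (Finsupp.single (i, (0 : Fin 2)) 1 +
          Finsupp.single (i, (1 : Fin 2)) 1 + s : Fin n × Fin 2 →₀ ℕ) (l, 0)) =
          Finsupp.single i 1 + Finsupp.equivFunOnFinite.symm fun l => s (l, 0) := by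
        ext j
        by_cases hj : i = j
        · subst hj; simp
        · simp [Finsupp.single_apply, hj]
      rw [h4]
    · rw [if_neg h3, if_neg (mt h2.1 h3), smul_zero, mul_zero]
  | add g h hg hh => rw [mul_add, map_add, map_add, hg, hh, mul_add]

theorem E_sum_mul (g : MvPolynomial (Fin n × Fin 2) k) :
    E k n ((∑ i, X (i, 0) * X (i, 1)) * g) = (∑ i, X i) * E k n g := by
  rw [Finset.sum_mul, map_sum, Finset.sum_mul]
  exact Finset.sum_congr rfl fun i _ => E_mul k n i g

theorem E_aeval (F : MvPolynomial (Fin n) ℤ) (g : MvPolynomial (Fin n × Fin 2) k) :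
    E k n (aeval (fun i => (X (i, 0) * X (i, 1) : MvPolynomial (Fin n × Fin 2) k)) F * g) =
      aeval (fun i => (X i : MvPolynomial (Fin n) k)) F * E k n g := by
  induction F using MvPolynomial.induction_on generalizing g with
  | C a =>
    rw [algHom_C, algHom_C, eq_intCast, eq_intCast, ← zsmul_eq_mul, map_zsmul, zsmul_eq_mul]
  | add F G hF hG => rw [map_add, add_mul, map_add, hF, hG, map_add, add_mul]
  | mul_X F i hF =>
    rw [map_mul (aeval _), aeval_X, mul_assoc, hF, E_mul, map_mul (aeval _), aeval_X, mul_assoc]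

theorem E_pow_mul (i : Fin n) (j : Fin 2) (g : MvPolynomial (Fin n × Fin 2) k) :
    (X i) ^ p ∣ E k n (X (i, j) ^ p * g) := by
  induction g using MvPolynomial.induction_on' with
  | monomial s c =>
    have h1 : (X (i, j) ^ p * monomial s c : MvPolynomial (Fin n × Fin 2) k) =
        monomial (Finsupp.single (i, j) p + s) c := by
      rw [X_pow_eq_monomial, monomial_mul, one_mul]
    rw [h1, E_monomial]
    refine (Dvd.dvd.mul_left ?_ (C c)).trans (dvd_of_eq (C_mul'))
    split_ifs with h
    · set u : Fin n →₀ ℕ := Finsupp.equivFunOnFinite.symm fun l =>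
        (Finsupp.single (i, j) p + s : Fin n × Fin 2 →₀ ℕ) (l, 0) with hu
      have hle : Finsupp.single i p ≤ u := by
        intro l
        by_cases hl : i = l
        · subst hl
          have h3 := h i
          have h4 : u i = (Finsupp.single (i, j) p + s : Fin n × Fin 2 →₀ ℕ) (i, 0) := rfl
          rw [Finsupp.single_eq_same, h4]
          fin_cases j
          · simp
          · rw [h3]; simp
        · simp [Finsupp.single_apply, hl]
      rw [X_pow_eq_monomial]
      refine ⟨monomial (u - Finsupp.single i p) 1, ?_⟩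
      rw [monomial_mul, one_mul, add_tsub_cancel_of_le hle]
    · exact dvd_zero _
  | add g h hg hh => rw [mul_add, map_add]; exact dvd_add hg hh

end E


section value

variable (m : ℕ)

/-- the point `(t₀, t₁, -(t₀+t₁), 0, …, 0)`. -/
noncomputable def vec (S : Type u) [CommRing S] : Fin (m + 3) → MvPolynomial (Fin 2) S :=
  Fin.cons (X 0) (Fin.cons (X 1) (Fin.cons (-(X 0 + X 1)) (fun _ => 0)))

theorem sum_vec (S : Type u) [CommRing S] : ∑ i, vec m S i = 0 := by
  rw [Fin.sum_univ_succ, Fin.sum_univ_succ, Fin.sum_univ_succ]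
  change X 0 + (X 1 + (-(X 0 + X 1) + ∑ _i : Fin m, 0)) = 0
  rw [Finset.sum_const_zero]
  ring

theorem sum_vec_pow (S : Type u) [CommRing S] :
    ∑ i, (vec m S i) ^ p = X 0 ^ p + X 1 ^ p + (-(X 0 + X 1)) ^ p := by
  rw [Fin.sum_univ_succ, Fin.sum_univ_succ, Fin.sum_univ_succ]
  change X 0 ^ p + (X 1 ^ p + ((-(X 0 + X 1)) ^ p + ∑ _i : Fin m, 0 ^ p)) = _
  rw [zero_pow hp.out.ne_zero, Finset.sum_const_zero]
  ring

/-- the exponent `(p-1, 1)`. -/
noncomputable def expo : Fin 2 →₀ ℕ := Finsupp.single 0 (p - 1) + Finsupp.single 1 1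

theorem expo_zero : expo p 0 = p - 1 := by simp [expo]
theorem expo_one : expo p 1 = 1 := by simp [expo]

theorem coeff_add_pow (S : Type u) [CommRing S] :
    coeff (expo p) ((X 0 + X 1 : MvPolynomial (Fin 2) S) ^ p) = p := by
  have hp2 := hp.out.two_le
  rw [add_pow, coeff_sum, Finset.sum_eq_single (p - 1)]
  · have h1 : p - (p - 1) = 1 := by omega
    have h2 : (X 0 ^ (p - 1) * X 1 ^ (p - (p - 1)) * (p.choose (p - 1) : MvPolynomial (Fin 2) S)) =
        C (p.choose (p - 1) : S) * monomial (expo p) 1 := by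
      rw [h1, X_pow_eq_monomial, X_pow_eq_monomial, monomial_mul, one_mul, expo, mul_comm]
      simp
    rw [h2, coeff_C_mul, coeff_monomial, if_pos rfl, mul_one, Nat.choose_symm_of_eq_add (b := 1) (by omega),
      Nat.choose_one_right]
  · intro j hj hne
    have h2 : (X 0 ^ j * X 1 ^ (p - j) * (p.choose j : MvPolynomial (Fin 2) S)) =
        C (p.choose j : S) * monomial (Finsupp.single 0 j + Finsupp.single 1 (p - j)) 1 := by
      rw [X_pow_eq_monomial, X_pow_eq_monomial, monomial_mul, one_mul, mul_comm]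
      simp
    rw [h2, coeff_C_mul, coeff_monomial, if_neg, mul_zero]
    intro h
    apply hne
    have := DFunLike.congr_fun h 0
    rw [expo_zero] at this
    simpa using this
  · intro h
    exact absurd (Finset.mem_range.2 (by omega)) h

theorem coeff_X_pow_p (S : Type u) [CommRing S] (i : Fin 2) (g : MvPolynomial (Fin 2) S) :
    coeff (expo p) (X i ^ p * g) = 0 := by
  have hp2 := hp.out.two_le
  rw [X_pow_eq_monomial, coeff_monomial_mul', if_neg]
  intro h
  have := h i
  rw [Finsupp.single_eq_same] at this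
  fin_cases i
  · change p ≤ expo p 0 at this
    rw [expo_zero] at this; omega
  · change p ≤ expo p 1 at this
    rw [expo_one] at this; omega

theorem coeff_delta_int : coeff (expo p) (aeval (vec m ℤ) (delta p (Fin (m + 3)))) = -(-1) ^ p := by
  have h := delta_eval p (Fin (m + 3)) (vec m ℤ)
  rw [sum_vec, sum_vec_pow, zero_pow hp.out.ne_zero, zero_sub] at h
  have h1 := congrArg (coeff (expo p)) h
  have h2 : ((p : MvPolynomial (Fin 2) ℤ)) = C (p : ℤ) := by simp
  rw [h2, coeff_C_mul, coeff_neg, coeff_add, coeff_add, neg_pow] at h1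
  have h3 : ((-1 : MvPolynomial (Fin 2) ℤ)) ^ p = C ((-1) ^ p) := by simp
  rw [h3, coeff_C_mul, coeff_add_pow] at h1
  have h4 := coeff_X_pow_p p ℤ 0 1
  have h5 := coeff_X_pow_p p ℤ 1 1
  rw [mul_one] at h4 h5
  rw [h4, h5, zero_add, zero_add] at h1
  have hp0 : (p : ℤ) ≠ 0 := by exact_mod_cast hp.out.ne_zero
  apply mul_left_cancel₀ hp0
  refine h1.symm.trans ?_
  ring

theorem coeff_delta (k : Type u) [Field k] :
    coeff (expo p) (aeval (vec m k) (delta p (Fin (m + 3)))) = -(-1) ^ p := by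
  have h1 : aeval (vec m k) (delta p (Fin (m + 3))) =
      MvPolynomial.map (Int.castRingHom k) (aeval (vec m ℤ) (delta p (Fin (m + 3)))) := by
    have h2 : (aeval (vec m k) : MvPolynomial (Fin (m + 3)) ℤ →ₐ[ℤ] _).toRingHom =
        (MvPolynomial.map (Int.castRingHom k)).comp
          (aeval (vec m ℤ) : MvPolynomial (Fin (m + 3)) ℤ →ₐ[ℤ] _).toRingHom := by
      apply MvPolynomial.ringHom_ext
      · intro r; simp
      · intro i
        simp only [AlgHom.toRingHom_eq_coe, RingHom.coe_coe, aeval_X, RingHom.comp_apply]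
        refine Fin.cases ?_ (fun i => Fin.cases ?_ (fun i => Fin.cases ?_ (fun i => ?_) i) i) i
        · change X 0 = MvPolynomial.map (Int.castRingHom k) (X 0); simp
        · change X 1 = MvPolynomial.map (Int.castRingHom k) (X 1); simp
        · change -(X 0 + X 1) = MvPolynomial.map (Int.castRingHom k) (-(X 0 + X 1)); simp
        · change 0 = MvPolynomial.map (Int.castRingHom k) 0; simp
    exact congr($h2 (delta p (Fin (m + 3))))
  rw [h1, coeff_map, coeff_delta_int]
  simp

end value

section main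

variable (k : Type u) [Field k] [CharP k p] (m : ℕ)

/-- The functional `k[x,y] → k` which vanishes on the ideal. -/
noncomputable def L : MvPolynomial (Fin (m + 3) × Fin 2) k →ₗ[k] k :=
  (MvPolynomial.lcoeff (R := k) (expo p)) ∘ₗ (aeval (vec m k) : MvPolynomial (Fin (m + 3)) k →ₐ[k] _).toLinearMap ∘ₗ
    E k (m + 3)

theorem L_apply (g : MvPolynomial (Fin (m + 3) × Fin 2) k) :
    L p k m g = coeff (expo p) (aeval (vec m k) (E k (m + 3) g)) := rfl

theorem L_sum_mul (g : MvPolynomial (Fin (m + 3) × Fin 2) k) :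
    L p k m ((∑ i, X (i, 0) * X (i, 1)) * g) = 0 := by
  rw [L_apply, E_sum_mul, map_mul, map_sum]
  simp only [aeval_X]
  rw [sum_vec, zero_mul, coeff_zero]

theorem L_pow_mul (v : Fin (m + 3) × Fin 2) (g : MvPolynomial (Fin (m + 3) × Fin 2) k) :
    L p k m (X v ^ p * g) = 0 := by
  obtain ⟨i, j⟩ := v
  obtain ⟨h, hh⟩ := E_pow_mul p k (m + 3) i j g
  rw [L_apply, hh, map_mul, map_pow, aeval_X]
  generalize aeval (vec m k) h = H
  refine Fin.cases ?_ (fun i => Fin.cases ?_ (fun i => Fin.cases ?_ (fun i => ?_) i) i) i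
  · exact coeff_X_pow_p p k 0 H
  · exact coeff_X_pow_p p k 1 H
  · change coeff (expo p) ((-(X 0 + X 1)) ^ p * H) = 0
    rw [neg_pow, add_pow_char, mul_assoc, add_mul, mul_add]
    have h3 : ((-1 : MvPolynomial (Fin 2) k)) ^ p = C ((-1) ^ p) := by simp
    rw [h3, coeff_add, coeff_C_mul, coeff_C_mul, coeff_X_pow_p, coeff_X_pow_p, mul_zero, add_zero]
  · change coeff (expo p) (0 ^ p * H) = 0
    rw [zero_pow hp.out.ne_zero, zero_mul, coeff_zero]

theorem L_mem (g : MvPolynomial (Fin (m + 3) × Fin 2) k)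
    (hg : g ∈ Ideal.span
        (insert (∑ i : Fin (m + 3), MvPolynomial.X (i, (0 : Fin 2)) * MvPolynomial.X (i, (1 : Fin 2)))
          (Set.range fun v : Fin (m + 3) × Fin 2 => (MvPolynomial.X v : MvPolynomial (Fin (m + 3) × Fin 2) k) ^ p))) :
    L p k m g = 0 := by
  rw [Ideal.mem_span_insert] at hg
  obtain ⟨a, z, hz, rfl⟩ := hg
  rw [map_add, mul_comm a, L_sum_mul, zero_add]
  have key : ∀ g, L p k m (z * g) = 0 := by
    refine Submodule.span_induction (p := fun z _ => ∀ g, L p k m (z * g) = 0) ?_ ?_ ?_ ?_ hz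
    · rintro _ ⟨v, rfl⟩ g
      exact L_pow_mul p k m v g
    · intro g; rw [zero_mul, map_zero]
    · intro x y _ _ hx hy g
      rw [add_mul, map_add, hx, hy, add_zero]
    · intro a x _ hx g
      rw [smul_eq_mul, mul_comm a, mul_assoc, hx]
  simpa using key 1

theorem L_delta : L p k m (aeval (fun i => (X (i, 0) * X (i, 1) : MvPolynomial (Fin (m + 3) × Fin 2) k))
    (delta p (Fin (m + 3)))) ≠ 0 := by
  have h1 := E_aeval k (m + 3) (delta p (Fin (m + 3))) 1
  rw [mul_one] at h1
  have h2 : E k (m + 3) 1 = 1 := by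
    have h3 : (1 : MvPolynomial (Fin (m + 3) × Fin 2) k) = monomial 0 1 := rfl
    rw [h3, E_monomial, if_pos (by simp), one_smul]
    have h4 : (Finsupp.equivFunOnFinite.symm fun l : Fin (m + 3) => (0 : Fin (m + 3) × Fin 2 →₀ ℕ) (l, 0)) = 0 := by
      ext l; simp
    rw [h4]; rfl
  rw [L_apply, h1, h2, mul_one]
  have h5 : aeval (vec m k) (aeval (fun i => (X i : MvPolynomial (Fin (m + 3)) k)) (delta p (Fin (m + 3)))) =
      aeval (vec m k) (delta p (Fin (m + 3))) := by
    have h6 : (((aeval (vec m k) : MvPolynomial (Fin (m + 3)) k →ₐ[k] _).toRingHom).comp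
        (aeval (fun i => (X i : MvPolynomial (Fin (m + 3)) k)) : MvPolynomial (Fin (m + 3)) ℤ →ₐ[ℤ] _).toRingHom) =
        (aeval (vec m k) : MvPolynomial (Fin (m + 3)) ℤ →ₐ[ℤ] _).toRingHom := by
      apply MvPolynomial.ringHom_ext
      · intro r; simp
      · intro i; simp
    exact congr($h6 (delta p (Fin (m + 3))))
  rw [h5, coeff_delta]
  exact neg_ne_zero.2 (pow_ne_zero _ (neg_ne_zero.2 one_ne_zero))

end main

end K674.Quadric
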