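import Groth.Prelude.Def_FrobAlg
import Mathlib.LinearAlgebra.Finsupp.VectorSpace
import Mathlib.RingTheory.TensorProduct.Free
import Mathlib.RingTheory.MvPolynomial.Basic
import Mathlib.Algebra.MvPolynomial.CommRing
import Mathlib.Algebra.CharP.Frobenius
import Mathlib.Logic.Equiv.Fin.Basic

/-!
# The relative Frobenius of a polynomial ring is free of rank `p ^ r`
-/

set_option autoImplicit false
set_option linter.unusedSectionVars false
universe u v w

open TensorProduct FrobAlg

namespace K674.RelPoly

section general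

variable {S R Q : Type*} [CommRing S] [CommRing R] [CommRing Q] [Algebra S R] [Algebra S Q] [Algebra R Q]
  [IsScalarTower S R Q] {E M N : Type*}

/-- A criterion for a family to be a basis over a bigger ring. -/
noncomputable def basisOfBases (y : Module.Basis M S R) (z : Module.Basis N S Q) (w : E → Q)
    (f : (Σ _ : E, M) ≃ N) (h : ∀ e m, z (f ⟨e, m⟩) = y m • w e) : Module.Basis E R Q := by
  refine Module.Basis.ofRepr (LinearEquiv.ofBijective (Finsupp.linearCombination R w) ?_).symm
  let F : (E →₀ R) ≃ₗ[S] Q := (Finsupp.basis (fun _ : E => y)).equiv z f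
  have hF : (Finsupp.linearCombination R w).restrictScalars S = F.toLinearMap := by
    refine (Finsupp.basis (fun _ : E => y)).ext ?_
    rintro ⟨e, m⟩
    rw [LinearMap.restrictScalars_apply, Finsupp.coe_basis]
    change Finsupp.linearCombination R w (Finsupp.single e (y m)) = F _
    rw [Finsupp.linearCombination_single]
    have h1 : F (Finsupp.single e (y m)) = z (f ⟨e, m⟩) := by
      have := (Finsupp.basis (fun _ : E => y)).equiv_apply ⟨e, m⟩ z f
      rwa [Finsupp.coe_basis] at this
    rw [← h, ← h1]
  have : (Finsupp.linearCombination R w : (E →₀ R) → Q) = F := by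
    funext x
    exact congr($hF x)
  rw [this]
  exact F.bijective

end general

section poly

variable (p : ℕ) [Fact p.Prime] (A : Type u) [CommRing A] [CharP A p] (σ : Type) [Finite σ]

theorem relFrob_tmul (B : Type*) [CommRing B] [CharP B p] [Algebra A B] (b : B) (a : Twist p A) :
    relFrob p A B (b ⊗ₜ[A] a) = b ^ p * algebraMap A B ((toTwist p A).symm a) := rfl

/-- `e + p m ↔ (e, m)`. -/
noncomputable def idxEquiv : (Σ _ : (σ → Fin p), (σ →₀ ℕ)) ≃ (σ →₀ ℕ) :=
  (((Equiv.sigmaEquivProd (σ → Fin p) (σ →₀ ℕ)).trans (Equiv.prodComm _ _)).trans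
    (Equiv.prodCongr Finsupp.equivFunOnFinite (Equiv.refl _))).trans
    (((Equiv.arrowProdEquivProdArrow σ (fun _ => ℕ) (fun _ => Fin p)).symm.trans
      (Equiv.arrowCongr (Equiv.refl σ) (Nat.divModEquiv p).symm)).trans Finsupp.equivFunOnFinite.symm)

theorem idxEquiv_apply (e : σ → Fin p) (m : σ →₀ ℕ) (i : σ) :
    idxEquiv p σ ⟨e, m⟩ i = m i * p + (e i : ℕ) := rfl

instance : CharP (MvPolynomial σ A) p := inferInstance

/-- auxiliary module structure. -/
noncomputable abbrev twMod : Module A (Twist p (MvPolynomial σ A)) := inferInstanceAs (Module A (MvPolynomial σ A))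

theorem exists_basis_aux :
    letI : Algebra (BaseChange p A (MvPolynomial σ A)) (Twist p (MvPolynomial σ A)) :=
      ((toTwist p (MvPolynomial σ A) : MvPolynomial σ A →+* Twist p (MvPolynomial σ A)).comp
        (relFrob p A (MvPolynomial σ A))).toAlgebra
    Nonempty (Module.Basis (σ → Fin p) (BaseChange p A (MvPolynomial σ A)) (Twist p (MvPolynomial σ A))) := by
  let τ : MvPolynomial σ A ≃+* Twist p (MvPolynomial σ A) := toTwist p (MvPolynomial σ A)
  let _ : Algebra (BaseChange p A (MvPolynomial σ A)) (Twist p (MvPolynomial σ A)) :=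
    ((toTwist p (MvPolynomial σ A) : MvPolynomial σ A →+* Twist p (MvPolynomial σ A)).comp
        (relFrob p A (MvPolynomial σ A))).toAlgebra
  let _ : Algebra (Twist p A) (Twist p (MvPolynomial σ A)) :=
    ((τ : MvPolynomial σ A →+* Twist p (MvPolynomial σ A)).comp
      ((algebraMap A (MvPolynomial σ A)).comp ((toTwist p A).symm : Twist p A →+* A))).toAlgebra
  have htower : IsScalarTower (Twist p A) (BaseChange p A (MvPolynomial σ A)) (Twist p (MvPolynomial σ A)) := by
    refine .of_algebraMap_eq fun a => ?_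
    change τ (algebraMap A _ ((toTwist p A).symm a)) = τ (relFrob p A (MvPolynomial σ A) (1 ⊗ₜ a))
    rw [relFrob_tmul, one_pow, one_mul]
  let y : Module.Basis (σ →₀ ℕ) (Twist p A) (BaseChange p A (MvPolynomial σ A)) :=
    (Algebra.TensorProduct.basis (Twist p A) (MvPolynomial.basisMonomials σ A)).map
      (Algebra.TensorProduct.commRight A (Twist p A) (MvPolynomial σ A)).toLinearEquiv
  have hy : ∀ m, y m = (MvPolynomial.monomial m (1 : A)) ⊗ₜ 1 := by
    intro m
    rw [Module.Basis.map_apply, Algebra.TensorProduct.basis_apply, MvPolynomial.coe_basisMonomials]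
    rfl
  let _ : Module A (Twist p (MvPolynomial σ A)) := twMod p A σ
  let z' : Module.Basis (σ →₀ ℕ) A (Twist p (MvPolynomial σ A)) := MvPolynomial.basisMonomials σ A
  let z : Module.Basis (σ →₀ ℕ) (Twist p A) (Twist p (MvPolynomial σ A)) :=
    z'.mapCoeffs (toTwist p A) (fun c x => by
      rw [Algebra.smul_def]
      change τ (algebraMap A _ ((toTwist p A).symm (toTwist p A c))) * x = _
      rw [RingEquiv.symm_apply_apply]
      exact (Algebra.smul_def c (τ.symm x)).symm)
  have hz : ∀ m, z m = τ (MvPolynomial.monomial m (1 : A)) := by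
    intro m
    rw [Module.Basis.coe_mapCoeffs]
    exact congrFun (MvPolynomial.coe_basisMonomials σ A) m
  refine ⟨basisOfBases y z
    (fun e => τ (MvPolynomial.monomial (Finsupp.equivFunOnFinite.symm fun i => (e i : ℕ)) 1))
    (idxEquiv p σ) fun e m => ?_⟩
  rw [hz, hy, Algebra.smul_def]
  change _ = τ (relFrob p A (MvPolynomial σ A) ((MvPolynomial.monomial m 1) ⊗ₜ 1)) * τ _
  rw [relFrob_tmul, RingEquiv.map_one, RingHom.map_one, mul_one, ← map_mul, MvPolynomial.monomial_pow, one_pow,
    MvPolynomial.monomial_mul, one_mul]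
  have hidx : idxEquiv p σ ⟨e, m⟩ = p • m + Finsupp.equivFunOnFinite.symm fun i => (e i : ℕ) := by
    ext i
    rw [idxEquiv_apply]
    simp [mul_comm]
  rw [hidx]

theorem exists_basis : letI := (relFrob p A (MvPolynomial σ A)).toAlgebra
    Nonempty (Module.Basis (σ → Fin p) (BaseChange p A (MvPolynomial σ A)) (MvPolynomial σ A)) :=
  exists_basis_aux p A σ

end poly

end K674.RelPoly
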