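import Groth.Prelude.Def_FrobAlg
import Groth.Agent.S3176
import Mathlib.RingTheory.IsTensorProduct
import Mathlib.RingTheory.Flat.Rank

/-!
# Relative Frobenius and base change

For `A → B → C` with `B → C` having bijective relative Frobenius (for instance étale), the square
`B^{(p/A)} → C^{(p/A)}`, `B → C` with vertical maps the relative Frobenii over `A` is a pushout.
-/

set_option autoImplicit false
set_option linter.unusedSectionVars false
universe u v w

open TensorProduct FrobAlg

namespace K674.RelPush

variable (p : ℕ) [Fact p.Prime] (A B C : Type u) [CommRing A] [CharP A p] [CommRing B] [CharP B p]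
  [CommRing C] [CharP C p] [Algebra A B] [Algebra B C] [Algebra A C] [IsScalarTower A B C]

/-- `B^{(p)} → B` as an algebra (target named `Twist p B`). -/
noncomputable abbrev algTw : Algebra (BaseChange p A B) (Twist p B) :=
  ((toTwist p B : B →+* Twist p B).comp (relFrob p A B)).toAlgebra

/-- `C^{(p)} → C` as an algebra (target named `Target p B C`). -/
noncomputable abbrev algTar : Algebra (BaseChange p A C) (Target p B C) :=
  ((toTarget p B C : C →+* Target p B C).comp (relFrob p A C)).toAlgebra

theorem relFrob_tmul (b : B) (a : Twist p A) :
    relFrob p A B (b ⊗ₜ[A] a) = b ^ p * algebraMap A B ((toTwist p A).symm a) := rfl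

/-- the base change map `B^{(p/A)} → C^{(p/A)}`. -/
noncomputable abbrev algBC : Algebra (BaseChange p A B) (BaseChange p A C) :=
  (Algebra.TensorProduct.map (IsScalarTower.toAlgHom A B C) (AlgHom.id A (Twist p A))).toRingHom.toAlgebra

theorem isPushout (h : Function.Bijective (relFrob p B C)) :
    letI := algTw p A B
    letI := algTar p A B C
    letI := algBC p A B C
    letI : Algebra (Twist p B) (Target p B C) := (inclHom p B C).toRingHom.toAlgebra
    letI : Algebra (BaseChange p A B) (Target p B C) :=
      ((algebraMap (BaseChange p A C) (Target p B C)).comp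
        (algebraMap (BaseChange p A B) (BaseChange p A C))).toAlgebra
    ∃ (_ : IsScalarTower (BaseChange p A B) (BaseChange p A C) (Target p B C))
      (_ : IsScalarTower (BaseChange p A B) (Twist p B) (Target p B C)),
    Algebra.IsPushout (BaseChange p A B) (Twist p B) (BaseChange p A C) (Target p B C) := by
  let _ := algTw p A B
  let _ := algTar p A B C
  let _ := algBC p A B C
  let _ : Algebra (Twist p B) (Target p B C) := (inclHom p B C).toRingHom.toAlgebra
  let _ : Algebra (BaseChange p A B) (Target p B C) :=
      ((algebraMap (BaseChange p A C) (Target p B C)).comp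
        (algebraMap (BaseChange p A B) (BaseChange p A C))).toAlgebra
  let _ : Algebra C (Target p B C) := (frobHom p B C).toRingHom.toAlgebra
  have t1 : IsScalarTower (BaseChange p A B) (BaseChange p A C) (Target p B C) := .of_algebraMap_eq' rfl
  have t2 : IsScalarTower (BaseChange p A B) (Twist p B) (Target p B C) := by
    refine .of_algebraMap_eq' ?_
    change ((toTarget p B C : C →+* Target p B C).comp (relFrob p A C)).comp
      (Algebra.TensorProduct.map (IsScalarTower.toAlgHom A B C) (AlgHom.id A (Twist p A))).toRingHom =
      (inclHom p B C).toRingHom.comp ((toTwist p B : B →+* Twist p B).comp (relFrob p A B))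
    apply Algebra.TensorProduct.ringHom_ext
    · ext b
      change toTarget p B C (relFrob p A C ((algebraMap B C b) ⊗ₜ 1)) =
        toTarget p B C (algebraMap B C ((toTwist p B).symm (toTwist p B (relFrob p A B (b ⊗ₜ 1)))))
      rw [relFrob_tmul, relFrob_tmul, RingEquiv.symm_apply_apply]
      simp
    · ext a
      change toTarget p B C (relFrob p A C (((algebraMap B C) 1) ⊗ₜ a)) =
        toTarget p B C (algebraMap B C ((toTwist p B).symm (toTwist p B (relFrob p A B ((1 : B) ⊗ₜ a)))))
      rw [relFrob_tmul, relFrob_tmul, RingEquiv.symm_apply_apply, map_one, one_pow, one_pow, one_mul, one_mul,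
        ← IsScalarTower.algebraMap_apply]
  refine ⟨t1, t2, ?_⟩
  have t3 : IsScalarTower B (Twist p B) (Target p B C) := .of_algebraMap_eq' ((inclHom p B C).comp_algebraMap).symm
  have t4 : IsScalarTower B C (Target p B C) := .of_algebraMap_eq' ((frobHom p B C).comp_algebraMap).symm
  have t5 : IsScalarTower C (BaseChange p A C) (Target p B C) := by
    refine .of_algebraMap_eq fun c => ?_
    change toTarget p B C (c ^ p) = toTarget p B C (relFrob p A C (c ⊗ₜ 1))
    rw [relFrob_tmul, map_one, map_one, mul_one]
  have t6 : IsScalarTower B (BaseChange p A C) (Target p B C) := by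
    refine .of_algebraMap_eq fun b => ?_
    rw [IsScalarTower.algebraMap_apply B C (Target p B C), IsScalarTower.algebraMap_apply B C (BaseChange p A C),
      ← IsScalarTower.algebraMap_apply C (BaseChange p A C) (Target p B C)]
  have t7 : IsScalarTower B (BaseChange p A B) (BaseChange p A C) := by
    refine .of_algebraMap_eq fun b => ?_
    change (algebraMap B C b) ⊗ₜ 1 = Algebra.TensorProduct.map (IsScalarTower.toAlgHom A B C) (AlgHom.id A (Twist p A)) (b ⊗ₜ 1)
    rw [Algebra.TensorProduct.map_tmul, map_one]; rfl
  have t8 : IsScalarTower B (BaseChange p A B) (Twist p B) := by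
    refine .of_algebraMap_eq fun b => ?_
    change toTwist p B (b ^ p) = toTwist p B (relFrob p A B (b ⊗ₜ 1))
    rw [relFrob_tmul, map_one, map_one, mul_one]
  have h1 : Algebra.IsPushout B C (BaseChange p A B) (BaseChange p A C) := by
    refine Algebra.IsPushout.tensorProduct_tensorProduct A (Twist p A) B C ?_
    ext a
    change Algebra.TensorProduct.map (IsScalarTower.toAlgHom A B C) (AlgHom.id A (Twist p A)) ((1 : B) ⊗ₜ a) = (1 : C) ⊗ₜ a
    rw [Algebra.TensorProduct.map_tmul, map_one]; rfl
  have h2 : Algebra.IsPushout B (BaseChange p A B) C (BaseChange p A C) := h1.symm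
  have h3 : Algebra.IsPushout B (Twist p B) C (Target p B C) := by
    refine Algebra.IsPushout.symm ?_
    refine ⟨?_⟩
    -- `C ⊗[B] Twist p B → Target p B C`
    let e : C ⊗[B] Twist p B ≃ₗ[C] Target p B C :=
      LinearEquiv.ofBijective
        { toFun := fun x => toTarget p B C (relFrob p B C x)
          map_add' := fun x y => by rw [map_add, map_add]
          map_smul' := fun c x => by
            have : c • x = (c ⊗ₜ[B] (1 : Twist p B)) * x := by
              rw [Algebra.smul_def]; rfl
            rw [this, map_mul, map_mul, relFrob_tmul, map_one, map_one, mul_one, RingHom.id_apply, Algebra.smul_def]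
            rfl }
        ((toTarget p B C).bijective.comp h)
    refine IsBaseChange.of_equiv e fun x => ?_
    change toTarget p B C (relFrob p B C ((1 : C) ⊗ₜ x)) = inclHom p B C x
    rw [relFrob_tmul, one_pow, one_mul]
    rfl
  exact (Algebra.IsPushout.comp_iff B (BaseChange p A B) C (S' := BaseChange p A C) (T := Twist p B)
    (T' := Target p B C)).1 h3

end K674.RelPush
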