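import Groth.Agent.FrobAlg.K674.RelPush
import Groth.Agent.FrobAlg.K674.RelPoly
import Groth.Agent.FrobAlg.K674.Coord
import Groth.Agent.S3176
import Groth.Agent.S3191
import Mathlib.RingTheory.Flat.Rank
import Mathlib.RingTheory.RingHom.Flat
import Mathlib.RingTheory.RingHom.Finite

/-!
# The relative Frobenius of a smooth algebra is finite locally free
-/

set_option autoImplicit false
set_option linter.unusedSectionVars false
universe u v w

open TensorProduct FrobAlg KaehlerDifferential

namespace K674.RelSmooth

variable (p : ℕ) [Fact p.Prime]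

theorem flat_finite_rank_of_coord (A C : Type u) [CommRing A] [CharP A p] [CommRing C] [CharP C p] [Algebra A C]
    [Algebra.Smooth A C] (I : Type) [Finite I] (v : I → C) (b : Module.Basis I C Ω[C⁄A])
    (hv : ∀ i, b i = D A C (v i)) :
    (relFrob p A C).Flat ∧ (relFrob p A C).Finite ∧ ∀ x, (relFrob p A C).finrank x = p ^ Nat.card I := by
  let f : MvPolynomial I A →ₐ[A] C := MvPolynomial.aeval v
  let _ : Algebra (MvPolynomial I A) C := f.toRingHom.toAlgebra
  have : IsScalarTower A (MvPolynomial I A) C := .of_algebraMap_eq fun r => (f.commutes r).symm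
  have het : Algebra.Etale (MvPolynomial I A) C := Coord.etale_of_basis b v hv
  have hbij := (Groth.Agent.S3176.result p (MvPolynomial I A) C).1 het
  let _ := RelPush.algTw p A (MvPolynomial I A)
  let _ := RelPush.algTar p A (MvPolynomial I A) C
  let _ := RelPush.algBC p A (MvPolynomial I A) C
  let _ : Algebra (Twist p (MvPolynomial I A)) (Target p (MvPolynomial I A) C) :=
    (inclHom p (MvPolynomial I A) C).toRingHom.toAlgebra
  let _ : Algebra (BaseChange p A (MvPolynomial I A)) (Target p (MvPolynomial I A) C) :=
      ((algebraMap (BaseChange p A C) (Target p (MvPolynomial I A) C)).comp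
        (algebraMap (BaseChange p A (MvPolynomial I A)) (BaseChange p A C))).toAlgebra
  obtain ⟨t1, t2, hpush⟩ := RelPush.isPushout p A (MvPolynomial I A) C hbij
  obtain ⟨B⟩ := RelPoly.exists_basis_aux p A I
  have hfree : Module.Free (BaseChange p A (MvPolynomial I A)) (Twist p (MvPolynomial I A)) := Module.Free.of_basis B
  have hfin : Module.Finite (BaseChange p A (MvPolynomial I A)) (Twist p (MvPolynomial I A)) := Module.Finite.of_basis B
  have hflat' : Module.Flat (BaseChange p A C) (Target p (MvPolynomial I A) C) :=
    Module.Flat.isBaseChange (BaseChange p A (MvPolynomial I A)) (BaseChange p A C) (Twist p (MvPolynomial I A)) _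
      hpush.symm.out
  have := hpush.symm
  have hfin' : Module.Finite (BaseChange p A C) (Target p (MvPolynomial I A) C) :=
    Module.Finite.equiv (Algebra.IsPushout.equiv (BaseChange p A (MvPolynomial I A)) (BaseChange p A C)
      (Twist p (MvPolynomial I A)) (Target p (MvPolynomial I A) C)).toLinearEquiv
  have hrank : ∀ x : PrimeSpectrum (BaseChange p A C),
      Module.rankAtStalk (Target p (MvPolynomial I A) C) x = p ^ Nat.card I := by
    intro x
    rw [Algebra.rankAtStalk_eq_of_isPushout (BaseChange p A (MvPolynomial I A)) (Twist p (MvPolynomial I A))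
      (BaseChange p A C) (Target p (MvPolynomial I A) C) x]
    have hnt : Nontrivial (BaseChange p A (MvPolynomial I A)) :=
      (PrimeSpectrum.comap (algebraMap (BaseChange p A (MvPolynomial I A)) (BaseChange p A C)) x).nontrivial
    rw [Module.rankAtStalk_eq_finrank_of_free, Pi.natCast_apply, Module.finrank_eq_nat_card_basis B, Nat.card_fun,
      Nat.card_fin, Nat.cast_id]
  exact ⟨hflat', hfin', hrank⟩

end K674.RelSmooth
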