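import Groth.Agent.FrobAlg.K674.Ghost
import Groth.Agent.Pi1.H409.SmoothLiftEx
import Mathlib.RingTheory.Smooth.Flat
import Mathlib.RingTheory.Smooth.Basic

/-!
# Smooth affine schemes over a perfect field lift to `W₂(k)` together with Frobenius
-/

set_option autoImplicit false
set_option linter.unusedSectionVars false
universe u v w

namespace K674.SmoothFLift

open FrobAlg K673.W2Basic K674.Ghost

variable (p : ℕ) [Fact p.Prime] (k : Type u) [Field k] [CharP k p] [PerfectRing k p]

/-- Every smooth algebra has a smooth lifting. -/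
theorem exists_smooth_isLift (A : Type u) [CommRing A] [Algebra k A] [Algebra.Smooth k A] :
    ∃ (B : Type u) (_ : CommRing B) (_ : Algebra (W2 p k) B) (π : B →+* A),
      Algebra.Smooth (W2 p k) B ∧ IsLift p k A B (algebraMap (W2 p k) B) π := by
  set R := W2 p k
  set I : Ideal R := RingHom.ker (res p k) with hI
  have hI2 : I ^ 2 = ⊥ := by
    rw [hI, ker_res, Ideal.span_singleton_pow, pow_two, natCast_mul_natCast, Ideal.span_singleton_eq_bot]
  let e : R ⧸ I ≃+* k := RingHom.quotientKerEquivOfSurjective (res_surjective p k)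
  let _ : Algebra (R ⧸ I) k := (e : R ⧸ I →+* k).toAlgebra
  let _ : Algebra (R ⧸ I) A := ((algebraMap k A).comp (e : R ⧸ I →+* k)).toAlgebra
  have : IsScalarTower (R ⧸ I) k A := .of_algebraMap_eq' rfl
  have hk : Algebra.Smooth (R ⧸ I) k :=
    Algebra.Smooth.of_equiv (A := R ⧸ I) { e with commutes' := fun r => rfl }
  have : Algebra.Smooth (R ⧸ I) A := Algebra.Smooth.comp (R ⧸ I) k A
  let _ : Algebra R A := ((algebraMap k A).comp (res p k)).toAlgebra
  have : IsScalarTower R (R ⧸ I) A := .of_algebraMap_eq' rfl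
  obtain ⟨C, _, _, κ, hC, hκ⟩ := Groth.Agent.Pi1.H409.SmoothLiftEx.exists_red (A := R) (B := A) I hI2
  refine ⟨C, inferInstance, inferInstance, κ, hC, ?_, hκ.surj, hκ.ker_eq, ?_⟩
  · rw [RingHom.flat_algebraMap_iff]; infer_instance
  · ext1 r
    exact κ.commutes r

/-- A flat lifting whose structure map is formally smooth has a lifting of Frobenius. -/
theorem exists_frobLift_of_formallySmooth (A B : Type u) [CommRing A] [Algebra k A] [CommRing B]
    [Algebra (W2 p k) B] [Algebra.FormallySmooth (W2 p k) B] (π : B →+* A)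
    (h : IsLift p k A B (algebraMap (W2 p k) B) π) :
    ∃ Φ : B →+* B, IsFrobLift p k A B (algebraMap (W2 p k) B) π Φ := by
  rw [frobLift_iff h]
  -- `B → W₂(A)` lifting `B → A`
  let _ : Algebra (W2 p k) (W2 p A) := (WittGrp.truncMap p 2 (algebraMap k A)).toAlgebra
  let _ : Algebra (W2 p k) A := ((algebraMap k A).comp (res p k)).toAlgebra
  let f : B →ₐ[W2 p k] A := { π with commutes' := fun r => congr($(h.comm) r) }
  have hcomm : ∀ r : W2 p k, res p A (WittGrp.truncMap p 2 (algebraMap k A) r) = algebraMap k A (res p k r) := by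
    intro r
    rw [res_apply, res_apply, WittGrp.coeff_truncMap]
  let g : W2 p A →ₐ[W2 p k] A := { res p A with commutes' := hcomm }
  have hg : Function.Surjective g := res_surjective p A
  have hnil : IsNilpotent (RingHom.ker (g : W2 p A →+* A)) := by
    rcases subsingleton_or_nontrivial A with hA | hA
    · have : Subsingleton (W2 p A) := ⟨fun x y => TruncatedWittVector.ext fun i => Subsingleton.elim _ _⟩
      refine ⟨1, ?_⟩
      rw [pow_one]
      exact Subsingleton.elim _ _
    have : CharP A p := by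
      refine (CharP.charP_iff_prime_eq_zero (Fact.out : p.Prime)).2 ?_
      rw [← map_natCast (algebraMap k A), CharP.cast_eq_zero, map_zero]
    refine ⟨2, ?_⟩
    rw [pow_two, Ideal.zero_eq_bot, eq_bot_iff, Ideal.mul_le]
    intro x hx y hy
    have hx0 : x.coeff 0 = 0 := by rw [← res_apply]; exact hx
    have hy0 : y.coeff 0 = 0 := by rw [← res_apply]; exact hy
    rw [Ideal.mem_bot]
    refine ext2 ?_ ?_
    · rw [coeff_zero_mul, hx0, zero_mul, TruncatedWittVector.coeff_zero]
    · rw [coeff_one_mul _ _ hy0, hx0, zero_pow (Fact.out : p.Prime).ne_zero, zero_mul,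
        TruncatedWittVector.coeff_zero]
  let θ := Algebra.FormallySmooth.liftOfSurjective f g hg hnil
  refine ⟨(θ : B →+* W2 p A), ?_, ?_⟩
  · ext1 b
    exact Algebra.FormallySmooth.liftOfSurjective_apply f g hg hnil b
  · ext1 r
    exact θ.commutes r

theorem result (A : Type u) [CommRing A] [Algebra k A] [Algebra.Smooth k A] : IsFLiftable p k A := by
  obtain ⟨B, _, _, π, hB, h⟩ := exists_smooth_isLift p k A
  obtain ⟨Φ, hΦ⟩ := exists_frobLift_of_formallySmooth p k A B π h
  exact ⟨B, inferInstance, _, π, Φ, hΦ⟩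

end K674.SmoothFLift
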