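import Groth.Agent.FrobAlg.K674.Ghost

/-!
# The ring of twisted Witt vectors of a Frobenius splitting is a flat lifting
-/

set_option autoImplicit false
set_option linter.unusedSectionVars false
universe u v w

namespace K674.Split

open FrobAlg K673.W2Basic K674.Ghost

variable (p : ℕ) [Fact p.Prime] (A : Type u) [CommRing A] (φ : A →+ A)
    (hφ : ∀ a b : A, φ (a ^ p * b) = a * φ b) (hφ1 : φ 1 = 1)

include hφ in
theorem mem_splitIdeal_iff [CharP A p] (x : W2 p A) :
    x ∈ splitIdeal p A φ ↔ x.coeff 0 = 0 ∧ φ (x.coeff 1) = 0 := by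
  constructor
  · intro hx
    induction hx using Submodule.span_induction with
    | mem y hy => exact ⟨by rw [← res_apply]; exact hy.1, hy.2⟩
    | zero => exact ⟨TruncatedWittVector.coeff_zero _ _ _ _, by rw [TruncatedWittVector.coeff_zero, map_zero]⟩
    | add y z _ _ hy hz =>
      exact ⟨by rw [coeff_zero_add, hy.1, hz.1, add_zero],
        by rw [coeff_one_add _ _ hy.1 hz.1, map_add, hy.2, hz.2, add_zero]⟩
    | smul a y _ hy =>
      rw [smul_eq_mul]
      exact ⟨by rw [coeff_zero_mul, hy.1, mul_zero],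
        by rw [coeff_one_mul _ _ hy.1, hφ, hy.2, mul_zero]⟩
  · rintro ⟨h0, h1⟩
    exact Ideal.subset_span ⟨by rw [res_apply, h0], h1⟩

theorem splitRes_mk (x : W2 p A) : splitRes p A φ (Ideal.Quotient.mk _ x) = x.coeff 0 := by
  rw [splitRes, Ideal.Quotient.lift_mk, res_apply]

theorem result (k : Type u) [Field k] [CharP k p] [PerfectRing k p] [Algebra k A]
    (hφ : ∀ a b : A, φ (a ^ p * b) = a * φ b) (hφ1 : φ 1 = 1) :
    FrobAlg.IsLift p k A (FrobAlg.W2 p A ⧸ FrobAlg.splitIdeal p A φ)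
      ((Ideal.Quotient.mk (FrobAlg.splitIdeal p A φ)).comp (WittGrp.truncMap p 2 (algebraMap k A)))
      (FrobAlg.splitRes p A φ) := by
  have hp0 := (Fact.out : p.Prime).ne_zero
  have hsurj : Function.Surjective (splitRes p A φ) := fun a => by
    obtain ⟨x, hx⟩ := res_surjective p A a
    exact ⟨Ideal.Quotient.mk _ x, by rw [splitRes_mk, ← res_apply, hx]⟩
  have hcomm : (splitRes p A φ).comp ((Ideal.Quotient.mk (FrobAlg.splitIdeal p A φ)).comp
      (WittGrp.truncMap p 2 (algebraMap k A))) = (algebraMap k A).comp (res p k) := by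
    ext1 x
    rw [RingHom.comp_apply, RingHom.comp_apply, splitRes_mk, WittGrp.coeff_truncMap, RingHom.comp_apply,
      res_apply]
  rcases subsingleton_or_nontrivial A with hA | hA
  · have : Subsingleton (W2 p A) := ⟨fun x y => TruncatedWittVector.ext fun i => Subsingleton.elim _ _⟩
    have hQ : Subsingleton (FrobAlg.W2 p A ⧸ FrobAlg.splitIdeal p A φ) :=
      Function.Surjective.subsingleton (Ideal.Quotient.mk_surjective (I := FrobAlg.splitIdeal p A φ))
    rw [K673.Lift.isLift_iff]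
    exact ⟨hsurj, fun _ _ => Subsingleton.elim _ _, fun _ _ => ⟨0, Subsingleton.elim _ _⟩, hcomm⟩
  have : CharP A p := by
    refine (CharP.charP_iff_prime_eq_zero (Fact.out : p.Prime)).2 ?_
    rw [← map_natCast (algebraMap k A), CharP.cast_eq_zero, map_zero]
  rw [K673.Lift.isLift_iff]
  refine ⟨hsurj, ?_, ?_, hcomm⟩
  · intro b hb
    obtain ⟨x, rfl⟩ := Ideal.Quotient.mk_surjective b
    rw [← map_natCast (Ideal.Quotient.mk (splitIdeal p A φ)), ← map_mul, Ideal.Quotient.eq_zero_iff_mem,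
      mem_splitIdeal_iff p A φ hφ] at hb
    have h1 := hb.2
    rw [coeff_one_natCast_mul, ← mul_one (x.coeff 0 ^ p), hφ, hφ1, mul_one] at h1
    rw [splitRes_mk, h1]
  · intro b hb
    obtain ⟨x, rfl⟩ := Ideal.Quotient.mk_surjective b
    rw [splitRes_mk] at hb
    let y : W2 p A := TruncatedWittVector.mk p ![φ (x.coeff 1), 0]
    have hy : y.coeff 0 = φ (x.coeff 1) := by rw [TruncatedWittVector.coeff_mk]; rfl
    refine ⟨Ideal.Quotient.mk _ y, ?_⟩
    rw [← sub_eq_zero, ← map_natCast (Ideal.Quotient.mk (splitIdeal p A φ)), ← map_mul, ← map_sub,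
      Ideal.Quotient.eq_zero_iff_mem, mem_splitIdeal_iff p A φ hφ]
    have h0 := coeff_zero_natCast_mul p A y
    refine ⟨by rw [coeff_zero_sub, hb, h0, sub_zero], ?_⟩
    rw [coeff_one_sub _ _ hb h0, coeff_one_natCast_mul, hy, map_sub, ← mul_one (φ (x.coeff 1) ^ p), hφ, hφ1,
      mul_one, sub_self]

end K674.Split
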